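import Cfsg.Agent.Lib.Solv.PGroupPhi

/-!
`2`-groups in which every element of order at most four is central: the subgroup generated by the
squares has index at most the number of solutions of `x² = 1`, and, when there are at most four of
them, it consists of squares.
-/

set_option autoImplicit false
set_option linter.style.haveILetI false

namespace Cfsg.Agent.Solv.FourGen

universe u

variable {G : Type u} [Group G]

/-- The subgroup generated by the squares of a subgroup. -/
def sq (H : Subgroup G) : Subgroup G := Subgroup.closure ((fun h => h ^ 2) '' (H : Set G))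

theorem sq_mem {H : Subgroup G} {h : G} (hh : h ∈ H) : h ^ 2 ∈ sq H :=
  Subgroup.subset_closure ⟨h, hh, rfl⟩

theorem sq_le (H : Subgroup G) : sq H ≤ H := by
  rw [sq, Subgroup.closure_le]
  rintro _ ⟨h, hh, rfl⟩
  exact H.pow_mem hh 2

theorem sq_mono {H K : Subgroup G} (h : H ≤ K) : sq H ≤ sq K :=
  Subgroup.closure_mono (Set.image_mono h)

theorem comm_mem_sq {H : Subgroup G} {a b : G} (ha : a ∈ H) (hb : b ∈ H) :
    a * b * a⁻¹ * b⁻¹ ∈ sq H := by
  have h : a * b * a⁻¹ * b⁻¹ = (a * b) ^ 2 * (b⁻¹ * a⁻¹ * b) ^ 2 * (b⁻¹) ^ 2 := by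
    rw [pow_two, pow_two, pow_two]
    group
  rw [h]
  exact mul_mem (mul_mem (sq_mem (mul_mem ha hb))
    (sq_mem (mul_mem (mul_mem (inv_mem hb) (inv_mem ha)) hb))) (sq_mem (inv_mem hb))

theorem conj_mem_sq {H : Subgroup G} {a x : G} (ha : a ∈ H) (hx : x ∈ sq H) :
    a * x * a⁻¹ ∈ sq H := by
  have h1 := mul_mem (comm_mem_sq ha (sq_le H hx)) hx
  rwa [inv_mul_cancel_right] at h1

theorem sq_normal_top : (sq (⊤ : Subgroup G)).Normal :=
  ⟨fun _ hx _ => conj_mem_sq (Subgroup.mem_top _) hx⟩

theorem exists_pow_two (h2 : IsPGroup 2 G) (x : G) : ∃ k : ℕ, x ^ 2 ^ k = 1 := h2 x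

/-- An element inverted, up to an involution, by an element fixing its powers of order at most four
has order at most four. -/
theorem pow_four_eq_one {x d e : G} (hd : ∃ k : ℕ, d ^ 2 ^ k = 1) (hde : Commute d e)
    (he : e ^ 2 = 1) (hconj : x * d * x⁻¹ = d⁻¹ * e)
    (hfix : ∀ n : ℕ, (d ^ n) ^ 4 = 1 → x * d ^ n * x⁻¹ = d ^ n) : d ^ 4 = 1 := by
  obtain ⟨k, hk⟩ := hd
  induction k generalizing d e with
  | zero => rw [pow_zero, pow_one] at hk; rw [hk, one_pow]
  | succ k ih =>
    have hsq : x * d ^ 2 * x⁻¹ = (d ^ 2)⁻¹ := by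
      rw [← conj_pow, hconj, (hde.inv_left).mul_pow, he, mul_one, inv_pow]
    have h1 : (d ^ 2) ^ 4 = 1 := ih (e := 1) (d := d ^ 2) (Commute.one_right _) (one_pow 2)
      (by rw [hsq, mul_one]) (fun n hn => by
        have := hfix (2 * n) (by rw [pow_mul]; exact hn)
        rwa [pow_mul] at this) (by rw [← pow_mul, ← pow_succ']; exact hk)
    have h3 : d ^ 2 = (d ^ 2)⁻¹ := (hfix 2 h1).symm.trans hsq
    calc d ^ 4 = d ^ 2 * d ^ 2 := by rw [← pow_add]
      _ = d ^ 2 * (d ^ 2)⁻¹ := by rw [← h3]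
      _ = 1 := mul_inv_cancel _

/-- Every element of order at most four is central. -/
def Central4 (X : Type u) [Group X] : Prop := ∀ x : X, x ^ 4 = 1 → x ∈ Subgroup.center X

variable {X : Type u} [Group X]

theorem Central4.comm (hc : Central4 X) {x : X} (hx : x ^ 4 = 1) (h : X) : Commute x h :=
  (Subgroup.mem_center_iff.1 (hc x hx) h).symm

/-- The solutions of `x² = 1`. -/
def inv1 (hc : Central4 X) : Subgroup X where
  carrier := {x | x ^ 2 = 1}
  one_mem' := one_pow 2
  mul_mem' := by
    intro a b ha hb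
    simp only [Set.mem_ofPred_eq] at ha hb ⊢
    rw [(hc.comm (show a ^ 4 = 1 by rw [show (4 : ℕ) = 2 * 2 from rfl, pow_mul, ha, one_pow]) b).mul_pow,
      ha, hb, one_mul]
  inv_mem' := by
    intro a ha
    simp only [Set.mem_ofPred_eq] at ha ⊢
    rw [inv_pow, ha, inv_one]

theorem mem_inv1 (hc : Central4 X) {x : X} : x ∈ inv1 hc ↔ x ^ 2 = 1 := Iff.rfl

theorem inv1_four (hc : Central4 X) {x : X} (hx : x ∈ inv1 hc) : x ^ 4 = 1 := by
  rw [show (4 : ℕ) = 2 * 2 from rfl, pow_mul, (mem_inv1 hc).1 hx, one_pow]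

instance inv1_normal (hc : Central4 X) : (inv1 hc).Normal :=
  ⟨fun x hx g => by
    rw [← (hc.comm (inv1_four hc hx) g).eq, mul_inv_cancel_right]
    exact hx⟩

variable [Finite X] (h2 : IsPGroup 2 X)

include h2 in
/-- Commutators with an element of order at most eight are involutions. -/
theorem comm_sq (hc : Central4 X) {x : X} (hx : x ^ 8 = 1) (h : X) :
    (x⁻¹ * (h * x * h⁻¹)) ^ 2 = 1 := by
  set d := x⁻¹ * (h * x * h⁻¹) with hd
  have hx2 : Commute (x ^ 2) h := hc.comm (by rw [← pow_mul]; exact hx) h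
  have hconj : x * d * x⁻¹ = d⁻¹ * 1 := by
    have e : x ^ 2 * h⁻¹ = h⁻¹ * x ^ 2 := (hx2.inv_right).eq
    have e2 : x * h⁻¹ * x⁻¹ = x⁻¹ * h⁻¹ * x := by
      calc x * h⁻¹ * x⁻¹ = x⁻¹ * (x ^ 2 * h⁻¹) * x⁻¹ := by group
        _ = x⁻¹ * (h⁻¹ * x ^ 2) * x⁻¹ := by rw [e]
        _ = _ := by group
    calc x * d * x⁻¹ = h * (x * h⁻¹ * x⁻¹) := by rw [hd]; group
      _ = h * (x⁻¹ * h⁻¹ * x) := by rw [e2]
      _ = _ := by rw [hd]; group
  have h4 : d ^ 4 = 1 := pow_four_eq_one (h2 d) (Commute.one_right d) (one_pow 2) hconj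
    (fun n hn => by rw [← (hc.comm hn x).eq, mul_inv_cancel_right])
  rw [← (hc.comm h4 x).eq, mul_inv_cancel_right, mul_one] at hconj
  calc d ^ 2 = d * d := pow_two d
    _ = d * d⁻¹ := by rw [← hconj]
    _ = 1 := mul_inv_cancel d

include h2 in
/-- Squaring and fourth powers on the elements of order at most eight. -/
theorem mul_pow_four (hc : Central4 X) {x y : X} (hx : x ^ 8 = 1) (hy : y ^ 8 = 1) :
    (x * y) ^ 4 = x ^ 4 * y ^ 4 := by
  set w := x⁻¹ * (y * x * y⁻¹) with hw
  have hw2 : w ^ 2 = 1 := comm_sq h2 hc hx y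
  have hwc : ∀ h : X, Commute w h := hc.comm (by rw [show (4 : ℕ) = 2 * 2 from rfl, pow_mul, hw2, one_pow])
  have hx2 : ∀ h : X, Commute (x ^ 2) h := hc.comm (by rw [← pow_mul]; exact hx)
  have hy2 : ∀ h : X, Commute (y ^ 2) h := hc.comm (by rw [← pow_mul]; exact hy)
  have h1 : (x * y) ^ 2 = x ^ 2 * y ^ 2 * w := by
    calc (x * y) ^ 2 = x * (x * w) * y * y := by rw [hw, pow_two]; group
      _ = x ^ 2 * (w * y ^ 2) := by rw [pow_two x, pow_two y]; group
      _ = x ^ 2 * (y ^ 2 * w) := by rw [(hwc _).eq]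
      _ = _ := (mul_assoc _ _ _).symm
  rw [show (4 : ℕ) = 2 * 2 from rfl, pow_mul, h1, ((hwc _).symm).mul_pow, hw2, mul_one,
    (hx2 _).mul_pow, ← pow_mul, ← pow_mul]

include h2 in
theorem quot_central4 (hc : Central4 X) : Central4 (X ⧸ inv1 hc) := by
  intro a ha
  induction a using QuotientGroup.induction_on with | _ x
  have hx : x ^ 8 = 1 := by
    rw [← QuotientGroup.mk_pow, QuotientGroup.eq_one_iff, mem_inv1, ← pow_mul] at ha
    exact ha
  refine Subgroup.mem_center_iff.2 fun b => ?_
  induction b using QuotientGroup.induction_on with | _ h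
  rw [← QuotientGroup.mk_mul, ← QuotientGroup.mk_mul, eq_comm, QuotientGroup.eq, mem_inv1]
  have h1 := comm_sq h2 hc hx h
  calc ((x * h)⁻¹ * (h * x)) ^ 2 = (h⁻¹ * (x⁻¹ * (h * x * h⁻¹)) * h⁻¹⁻¹) ^ 2 := by group
    _ = 1 := by rw [conj_pow, h1, mul_one, inv_inv, inv_mul_cancel]

theorem card_quot_inv1 (hc : Central4 X) (hq : Central4 (X ⧸ inv1 hc)) :
    Nat.card (inv1 hq) ≤ Nat.card (inv1 hc) := by
  have hmem : ∀ a : inv1 hq, (Quotient.out a.1) ^ 2 ∈ inv1 hc := by
    intro a
    rw [← QuotientGroup.eq_one_iff, QuotientGroup.mk_pow, QuotientGroup.out_eq']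
    exact (mem_inv1 hq).1 a.2
  refine Nat.card_le_card_of_injective (fun a => (⟨_, hmem a⟩ : inv1 hc)) fun a b hab => ?_
  have hab' : Quotient.out a.1 ^ 2 = Quotient.out b.1 ^ 2 := congrArg Subtype.val hab
  have h4 : Quotient.out a.1 ^ 4 = 1 := by
    rw [show (4 : ℕ) = 2 * 2 from rfl, pow_mul]
    exact (mem_inv1 hc).1 (hmem a)
  apply Subtype.ext
  rw [← QuotientGroup.out_eq' a.1, ← QuotientGroup.out_eq' b.1, QuotientGroup.eq, mem_inv1,
    ((hc.comm h4 _).inv_left).mul_pow, inv_pow, hab', inv_mul_cancel]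

theorem map_sq_top {Y : Type u} [Group Y] (f : X →* Y) (hf : Function.Surjective f) :
    (sq (⊤ : Subgroup X)).map f = sq ⊤ := by
  rw [sq, sq, MonoidHom.map_closure, ← Set.image_comp]
  congr 1
  ext y
  constructor
  · rintro ⟨x, -, rfl⟩
    exact ⟨f x, Set.mem_univ _, (map_pow f x 2).symm⟩
  · rintro ⟨z, -, rfl⟩
    obtain ⟨x, rfl⟩ := hf z
    exact ⟨x, Set.mem_univ _, map_pow f x 2⟩

/-- A subgroup containing all squares and maximal avoiding an element has index two. -/
theorem exists_split (w : X) (hw : w ∉ sq (⊤ : Subgroup X)) :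
    ∃ M : Subgroup X, sq ⊤ ≤ M ∧ w ∉ M ∧ ∀ x, x ∈ M ∨ w⁻¹ * x ∈ M := by
  obtain ⟨M, ⟨hsM, hwM⟩, hmax⟩ := Set.Finite.exists_maximalFor (id : Subgroup X → Subgroup X)
    {M | sq ⊤ ≤ M ∧ w ∉ M} (Set.toFinite _) ⟨_, le_rfl, hw⟩
  refine ⟨M, hsM, hwM, fun x => ?_⟩
  by_cases hx : x ∈ M
  · exact Or.inl hx
  right
  haveI hMn : M.Normal := ⟨fun m hm g => by
    have h1 := mul_mem (hsM (comm_mem_sq (Subgroup.mem_top g) (Subgroup.mem_top m))) hm
    rwa [inv_mul_cancel_right] at h1⟩
  have hx2 : x ^ 2 ∈ M := hsM (sq_mem (Subgroup.mem_top x))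
  have hwmem : w ∈ Subgroup.zpowers x ⊔ M := by
    by_contra hn
    exact hx (hmax (j := Subgroup.zpowers x ⊔ M) ⟨hsM.trans le_sup_right, hn⟩ le_sup_right
      (Subgroup.mem_sup_left (Subgroup.mem_zpowers x)))
  rw [← SetLike.mem_coe, Subgroup.mul_normal] at hwmem
  obtain ⟨_, ⟨i, rfl⟩, m, hm, hxm⟩ := hwmem
  simp only at hxm
  rcases Int.even_or_odd i with ⟨j, hj⟩ | ⟨j, hj⟩
  · exfalso
    apply hwM
    rw [← hxm, hj]
    refine mul_mem ?_ hm
    rw [← two_mul, zpow_mul]
    exact M.zpow_mem (by exact_mod_cast hx2) j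
  · have h3 : x⁻¹ * w ∈ M := by
      rw [← hxm, hj]
      have : x⁻¹ * (x ^ (2 * j + 1) * m) = (x ^ (2 : ℤ)) ^ j * m := by rw [← zpow_mul]; group
      rw [this]
      exact mul_mem (M.zpow_mem (by exact_mod_cast hx2) j) hm
    have := inv_mem h3
    rwa [mul_inv_rev, inv_inv] at this

include h2 in
/-- The squares generate a subgroup of index at most the number of solutions of `x² = 1`. -/
theorem index_sq_le : ∀ hc : Central4 X, (sq (⊤ : Subgroup X)).index ≤ Nat.card (inv1 hc) := by
  induction hn : Nat.card X using Nat.strong_induction_on generalizing X with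
  | h n ih =>
    intro hc
    by_cases hle : inv1 hc ≤ sq ⊤
    · by_cases hb : inv1 hc = ⊥
      · have htriv : ∀ x : X, x = 1 := by
          intro x
          obtain ⟨k, hk⟩ := h2 x
          induction k generalizing x with
          | zero => rwa [pow_zero, pow_one] at hk
          | succ k ihk =>
            have := ihk (x ^ 2) (by rw [← pow_mul, ← pow_succ']; exact hk)
            exact Subgroup.mem_bot.1 (hb ▸ ((mem_inv1 hc).2 this))
        have : sq (⊤ : Subgroup X) = ⊤ := (Subgroup.eq_top_iff' _).2 fun x => htriv x ▸ one_mem _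
        rw [this, Subgroup.index_top]
        exact Nat.card_pos
      have hlt : Nat.card (X ⧸ inv1 hc) < n := by
        rw [← hn, Subgroup.card_eq_card_quotient_mul_card_subgroup (inv1 hc)]
        refine lt_mul_of_one_lt_right Nat.card_pos ?_
        rw [Finite.one_lt_card_iff_nontrivial]
        exact (Subgroup.nontrivial_iff_ne_bot _).2 hb
      have h3 := ih _ hlt (h2.to_quotient _) rfl (quot_central4 h2 hc)
      rw [← map_sq_top (QuotientGroup.mk' (inv1 hc)) (QuotientGroup.mk'_surjective _),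
        Subgroup.index_map_eq _ (QuotientGroup.mk'_surjective _)
          (by rwa [QuotientGroup.ker_mk'])] at h3
      exact h3.trans (card_quot_inv1 hc _)
    · obtain ⟨w, hw, hws⟩ := SetLike.not_le_iff_exists.1 hle
      obtain ⟨M, hsM, hwM, hMx⟩ := exists_split w hws
      have hcM : Central4 M := fun x hx => Subgroup.mem_center_iff.2 fun y =>
        Subtype.ext ((hc.comm (by exact_mod_cast congrArg Subtype.val hx) y.1).eq.symm)
      have hlt : Nat.card M < n := by
        rw [← hn]
        exact (Subgroup.card_le_card_group M).lt_of_ne fun h => hwM (by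
          rw [(Subgroup.card_eq_iff_eq_top M).1 h]; exact Subgroup.mem_top w)
      have h3 := ih _ hlt (h2.to_subgroup M) rfl hcM
      have hmap : (sq (⊤ : Subgroup M)).map M.subtype = sq ⊤ := by
        apply le_antisymm
        · rw [sq, MonoidHom.map_closure, Subgroup.closure_le]
          rintro _ ⟨_, ⟨m, -, rfl⟩, rfl⟩
          exact sq_mem (Subgroup.mem_top _)
        · rw [sq, Subgroup.closure_le]
          rintro _ ⟨x, -, rfl⟩
          rcases hMx x with h | h
          · exact ⟨⟨x, h⟩ ^ 2, sq_mem (Subgroup.mem_top _), rfl⟩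
          · have hwc : Commute w (w⁻¹ * x) := hc.comm (inv1_four hc hw) _
            have e : x ^ 2 = (w⁻¹ * x) ^ 2 := by
              conv_lhs => rw [← mul_inv_cancel_left w x, hwc.mul_pow, (mem_inv1 hc).1 hw, one_mul]
            exact ⟨⟨_, h⟩ ^ 2, sq_mem (Subgroup.mem_top _), e.symm⟩
      have hMi : M.index = 2 := by
        refine Subgroup.index_eq_two_iff'.2 ⟨w⁻¹, fun b => ?_⟩
        rcases hMx b with h | h
        · refine Or.inr ⟨h, fun hh => hwM ?_⟩
          simpa using inv_mem (mul_mem hh (inv_mem h))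
        · refine Or.inl ⟨h, fun hh => hwM ?_⟩
          simpa using inv_mem (mul_mem h (inv_mem hh))
      have hcard : 2 * Nat.card (inv1 hcM) ≤ Nat.card (inv1 hc) := by
        let f : Bool × inv1 hcM → inv1 hc := fun p =>
          ⟨(bif p.1 then w else 1) * p.2.1.1, mul_mem
            (by cases p.1; exacts [one_mem _, hw])
            ((mem_inv1 hc).2 (by exact_mod_cast congrArg Subtype.val ((mem_inv1 hcM).1 p.2.2)))⟩
        have hf : Function.Injective f := by
          rintro ⟨i, a⟩ ⟨j, b⟩ hab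
          have hab' : (bif i then w else 1) * a.1.1 = (bif j then w else 1) * b.1.1 :=
            congrArg Subtype.val hab
          cases i <;> cases j <;> simp only [cond_true, cond_false, one_mul, mul_right_inj] at hab'
          · rw [Prod.ext_iff]; exact ⟨rfl, Subtype.ext (Subtype.ext hab')⟩
          · exact absurd (eq_mul_inv_of_mul_eq hab'.symm ▸ mul_mem a.1.2 (inv_mem b.1.2)) hwM
          · exact absurd (eq_mul_inv_of_mul_eq hab' ▸ mul_mem b.1.2 (inv_mem a.1.2)) hwM
          · rw [Prod.ext_iff]; exact ⟨rfl, Subtype.ext (Subtype.ext hab')⟩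
        simpa [Nat.card_prod] using Nat.card_le_card_of_injective f hf
      have h4 : (sq (⊤ : Subgroup X)).index = (sq (⊤ : Subgroup M)).index * 2 := by
        rw [← hmap, Subgroup.index_map_subtype, hMi]
      rw [h4]
      omega

include h2 in
/-- With at most four solutions of `x² = 1`, products of squares are squares. -/
theorem exists_sq : ∀ hc : Central4 X, Nat.card (inv1 hc) ≤ 4 → ∀ t ∈ sq (⊤ : Subgroup X),
    ∃ s, t = s ^ 2 := by
  induction hn : Nat.card X using Nat.strong_induction_on generalizing X with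
  | h n ih =>
    intro hc h4 t ht
    by_cases hcomm : ∀ a b : X, Commute a b
    · induction ht using Subgroup.closure_induction with
      | mem x hx => obtain ⟨s, -, rfl⟩ := hx; exact ⟨s, rfl⟩
      | one => exact ⟨1, (one_pow 2).symm⟩
      | mul a b _ _ ha hb =>
        obtain ⟨s, rfl⟩ := ha
        obtain ⟨r, rfl⟩ := hb
        exact ⟨s * r, ((hcomm s r).mul_pow 2).symm⟩
      | inv a _ ha => obtain ⟨s, rfl⟩ := ha; exact ⟨s⁻¹, (inv_pow s 2).symm⟩
    by_cases hle : inv1 hc ≤ sq ⊤
    · haveI : Fact (Nat.Prime 2) := ⟨Nat.prime_two⟩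
      have hindex : 3 ≤ (sq (⊤ : Subgroup X)).index := by
        by_contra hlt
        apply hcomm
        haveI := sq_normal_top (G := X)
        have hcyc : ∃ x : X, ∀ y : X, y ∈ sq ⊤ ∨ x⁻¹ * y ∈ sq ⊤ := by
          rcases (show (sq (⊤ : Subgroup X)).index = 1 ∨ (sq (⊤ : Subgroup X)).index = 2 from by
            have := Subgroup.index_ne_zero_of_finite (H := sq (⊤ : Subgroup X)); omega) with e | e
          · exact ⟨1, fun y => Or.inl (by rw [Subgroup.index_eq_one.1 e]; exact Subgroup.mem_top y)⟩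
          · obtain ⟨a, ha⟩ := Subgroup.index_eq_two_iff'.1 e
            refine ⟨a⁻¹, fun y => ?_⟩
            rw [inv_inv]
            rcases ha y with h | h
            · exact Or.inr h.1
            · exact Or.inl h.1
        obtain ⟨x, hx⟩ := hcyc
        have hsF : sq (⊤ : Subgroup X) ≤ frattini X := by
          rw [sq, Subgroup.closure_le]
          rintro _ ⟨y, -, rfl⟩
          exact pow_mem_frattini h2 y
        have htop : Subgroup.zpowers x = ⊤ := by
          refine frattini_nongenerating ((Subgroup.eq_top_iff' _).2 fun y => ?_)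
          rcases hx y with h | h
          · exact Subgroup.mem_sup_right (hsF h)
          · rw [← mul_inv_cancel_left x y]
            exact Subgroup.mul_mem_sup (Subgroup.mem_zpowers x) (hsF h)
        intro a b
        obtain ⟨i, rfl⟩ := Subgroup.mem_zpowers_iff.1 (htop ▸ Subgroup.mem_top a)
        obtain ⟨j, rfl⟩ := Subgroup.mem_zpowers_iff.1 (htop ▸ Subgroup.mem_top b)
        exact (Commute.refl x).zpow_zpow i j
      have hq := quot_central4 h2 hc
      have hq2 : IsPGroup 2 (X ⧸ inv1 hc) := h2.to_quotient _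
      have h3 := index_sq_le hq2 hq
      rw [← map_sq_top (QuotientGroup.mk' (inv1 hc)) (QuotientGroup.mk'_surjective _),
        Subgroup.index_map_eq _ (QuotientGroup.mk'_surjective _)
          (by rwa [QuotientGroup.ker_mk'])] at h3
      have hcq := card_quot_inv1 hc hq
      have hcard : Nat.card (inv1 hq) = Nat.card (inv1 hc) := by
        obtain ⟨a, ha⟩ := IsPGroup.iff_card.1 (hq2.to_subgroup (inv1 hq))
        obtain ⟨b, hb⟩ := IsPGroup.iff_card.1 (h2.to_subgroup (inv1 hc))
        rcases le_or_gt 2 a with h | h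
        · have : 4 ≤ 2 ^ a := le_trans (by norm_num) (Nat.pow_le_pow_right (by norm_num) h)
          omega
        · have : 2 ^ a ≤ 2 := le_trans (Nat.pow_le_pow_right (by norm_num) (show a ≤ 1 by omega))
            (by norm_num)
          omega
      have hsurj : ∀ w ∈ inv1 hc, ∃ v : X, v ^ 4 = 1 ∧ v ^ 2 = w := by
        intro w hw
        have hmem : ∀ a : inv1 hq, (Quotient.out a.1) ^ 2 ∈ inv1 hc := by
          intro a
          rw [← QuotientGroup.eq_one_iff, QuotientGroup.mk_pow, QuotientGroup.out_eq']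
          exact (mem_inv1 hq).1 a.2
        have hinj : Function.Injective fun a => (⟨_, hmem a⟩ : inv1 hc) := by
          intro a b hab
          have hab' : Quotient.out a.1 ^ 2 = Quotient.out b.1 ^ 2 := congrArg Subtype.val hab
          apply Subtype.ext
          rw [← QuotientGroup.out_eq' a.1, ← QuotientGroup.out_eq' b.1, QuotientGroup.eq, mem_inv1,
            ((hc.comm (by rw [show (4 : ℕ) = 2 * 2 from rfl, pow_mul]
                          exact (mem_inv1 hc).1 (hmem a)) _).inv_left).mul_pow,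
            inv_pow, hab', inv_mul_cancel]
        obtain ⟨a, ha⟩ := (((Nat.bijective_iff_injective_and_card _).2 ⟨hinj, hcard⟩).2 ⟨w, hw⟩)
        refine ⟨Quotient.out a.1, ?_, congrArg Subtype.val ha⟩
        rw [show (4 : ℕ) = 2 * 2 from rfl, pow_mul]
        exact (mem_inv1 hc).1 (hmem a)
      have hlt : Nat.card (X ⧸ inv1 hc) < n := by
        rw [← hn, Subgroup.card_eq_card_quotient_mul_card_subgroup (inv1 hc)]
        refine lt_mul_of_one_lt_right Nat.card_pos ?_
        have := Nat.card_pos (α := inv1 hq)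
        omega
      obtain ⟨sb, hsb⟩ := ih _ hlt hq2 rfl hq (by omega) (t : X ⧸ inv1 hc)
        (by rw [← map_sq_top (QuotientGroup.mk' (inv1 hc)) (QuotientGroup.mk'_surjective _)]
            exact Subgroup.mem_map_of_mem _ ht)
      induction sb using QuotientGroup.induction_on with | _ s
      rw [← QuotientGroup.mk_pow, eq_comm, QuotientGroup.eq] at hsb
      obtain ⟨v, hv4, hv⟩ := hsurj _ hsb
      exact ⟨s * v, by rw [((hc.comm hv4 s).symm).mul_pow, hv, mul_inv_cancel_left]⟩
    · obtain ⟨w, hw, hws⟩ := SetLike.not_le_iff_exists.1 hle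
      obtain ⟨M, hsM, hwM, hMx⟩ := exists_split w hws
      have hcM : Central4 M := fun x hx => Subgroup.mem_center_iff.2 fun y =>
        Subtype.ext ((hc.comm (by exact_mod_cast congrArg Subtype.val hx) y.1).eq.symm)
      have hlt : Nat.card M < n := by
        rw [← hn]
        exact (Subgroup.card_le_card_group M).lt_of_ne fun h => hwM (by
          rw [(Subgroup.card_eq_iff_eq_top M).1 h]; exact Subgroup.mem_top w)
      have h4M : Nat.card (inv1 hcM) ≤ 4 := by
        refine (Nat.card_le_card_of_injective (fun a : inv1 hcM => (⟨a.1.1,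
          (mem_inv1 hc).2 (by exact_mod_cast congrArg Subtype.val ((mem_inv1 hcM).1 a.2))⟩ : inv1 hc))
          fun a b hab => ?_).trans h4
        exact Subtype.ext (Subtype.ext (congrArg (fun z : inv1 hc => z.1) hab))
      have hmem : t ∈ (sq (⊤ : Subgroup M)).map M.subtype := by
        revert ht
        rw [sq]
        intro ht
        induction ht using Subgroup.closure_induction with
        | mem x hx =>
          obtain ⟨x, -, rfl⟩ := hx
          rcases hMx x with h | h
          · exact ⟨⟨x, h⟩ ^ 2, sq_mem (Subgroup.mem_top _), rfl⟩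
          · have hwc : Commute w (w⁻¹ * x) := hc.comm (inv1_four hc hw) _
            have e : x ^ 2 = (w⁻¹ * x) ^ 2 := by
              conv_lhs => rw [← mul_inv_cancel_left w x, hwc.mul_pow, (mem_inv1 hc).1 hw, one_mul]
            exact ⟨⟨_, h⟩ ^ 2, sq_mem (Subgroup.mem_top _), e.symm⟩
        | one => exact one_mem _
        | mul a b _ _ ha hb => exact mul_mem ha hb
        | inv a _ ha => exact inv_mem ha
      obtain ⟨m, hm, rfl⟩ := hmem
      obtain ⟨s, rfl⟩ := ih _ hlt (h2.to_subgroup M) rfl hcM h4M m hm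
      exact ⟨s.1, rfl⟩

/-- The subgroup version of the index bound. -/
theorem relIndex_sq {G : Type u} [Group G] (D : Subgroup G) :
    (sq D).relIndex D = (sq (⊤ : Subgroup D)).index := by
  have h : (sq (⊤ : Subgroup D)).map D.subtype = sq D := by
    rw [sq, sq, MonoidHom.map_closure, ← Set.image_comp]
    congr 1
    ext y
    constructor
    · rintro ⟨x, -, rfl⟩
      exact ⟨x.1, x.2, rfl⟩
    · rintro ⟨x, hx, rfl⟩
      exact ⟨⟨x, hx⟩, Set.mem_univ _, rfl⟩
  rw [← h, Subgroup.relIndex, Subgroup.subgroupOf,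
    Subgroup.comap_map_eq_self_of_injective D.subtype_injective]

end Cfsg.Agent.Solv.FourGen
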