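import Mathlib

/-!
Facts about the sixteen `2 × 2` matrices over the field with two elements.
-/

set_option autoImplicit false
set_option synthInstance.maxSize 2000
set_option synthInstance.maxHeartbeats 200000

namespace Cfsg.Agent.Solv.FourGen.Mat

/-- The matrices. -/
abbrev M2 : Type := Matrix (Fin 2) (Fin 2) (ZMod 2)

/-- Vectors. -/
abbrev V2 : Type := Fin 2 → ZMod 2

open Matrix

theorem sq_one_of_four : ∀ U : M2, (U * U) * (U * U) = 1 → U * U = 1 := by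
  decide +kernel

theorem invol_unique : ∀ U W : M2, U * U = 1 → W * W = 1 → (U * W) * (U * W) = 1 →
    U ≠ 1 → W ≠ 1 → U = W := by
  decide +kernel

theorem transvection : ∀ U : M2, U * U = 1 → U ≠ 1 →
    U * (U + 1) = (U + 1) * U ∧ (U + 1) * (U + 1) = 0 ∧ U + 1 ≠ 0 := by
  decide +kernel

theorem transvection_fix : ∀ U : M2, U * U = 1 → U ≠ 1 → ∀ m : M2, U * m = m * U →
    m = 0 ∨ m = 1 ∨ m = U + 1 ∨ m = U := by
  decide +kernel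

theorem nil_inj : ∀ n : M2, n * n = 0 → ∀ v : V2, (1 + n) *ᵥ v = 0 → v = 0 := by
  decide +kernel

theorem fixed_nil : ∀ U n : M2, ∀ p : V2, U * U = 1 → n * n = 0 → n ≠ 0 → p ≠ 0 →
    U *ᵥ p = p → n *ᵥ p = 0 → U * n = n * U := by
  decide +kernel

theorem nil_line : ∀ n : M2, ∀ p q : V2, n * n = 0 → n ≠ 0 → p ≠ 0 → q ≠ 0 →
    n *ᵥ p = 0 → n *ᵥ q = 0 → p = q := by
  decide +kernel

/-- The element of order three. -/
def omega : M2 := !![0, 1; 1, 1]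

theorem omega_sq : omega + omega * omega = 1 := by decide +kernel

theorem omega_inj : ∀ v : V2, (1 + omega) *ᵥ v = 0 → v = 0 := by decide +kernel

theorem omega_sq_inj : ∀ v : V2, (1 + omega * omega) *ᵥ v = 0 → v = 0 := by decide +kernel

theorem omega_ne : omega ≠ 0 ∧ omega * omega ≠ 0 ∧ ∀ v : V2, omega *ᵥ v = 0 → v = 0 := by
  decide +kernel

theorem quad_omega : ∀ p : V2, (omega + omega * omega) *ᵥ p = p ∧
    ((omega * omega) + (omega * omega) * (omega * omega)) *ᵥ p = p := by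
  decide +kernel

theorem three_nils : ∃ n₁ n₂ n₃ : M2, n₁ * n₁ = 0 ∧ n₂ * n₂ = 0 ∧ n₃ * n₃ = 0 ∧ n₁ ≠ 0 ∧ n₂ ≠ 0 ∧
    n₃ ≠ 0 ∧ n₁ + n₂ + n₃ = 1 := by
  decide +kernel

theorem nils_at : ∀ p : V2, p ≠ 0 → ∃ n n' n'' : M2, n * n = 0 ∧ n' * n' = 0 ∧ n'' * n'' = 0 ∧
    n ≠ 0 ∧ n *ᵥ p = 0 ∧ n' *ᵥ p ≠ 0 ∧ n'' *ᵥ p ≠ 0 ∧ n' + n'' = 1 + n := by
  decide +kernel

theorem two_values : ∀ p : V2, p ≠ 0 → ∃ m₁ m₂ : M2, (m₁ + m₁ * m₁) *ᵥ p ≠ 0 ∧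
    (m₂ + m₂ * m₂) *ᵥ p ≠ 0 ∧ (m₁ + m₁ * m₁) *ᵥ p ≠ (m₂ + m₂ * m₂) *ᵥ p := by
  decide +kernel

theorem swap_sums : ∀ U : M2, U * U = 1 → U ≠ 1 → ∃ n' : M2,
    n' + U * n' * U = U ∧ omega + U * omega * U = 1 := by
  decide +kernel

end Cfsg.Agent.Solv.FourGen.Mat
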