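import Cfsg.Agent.Lib.Solv.FourGen.Maximal
import Cfsg.Agent.Lib.Solv.FourGen.Matrices

/-!
The action of a `2`-group on a normal subgroup `E ≅ Z₄ × Z₄`: the elements fixing the involutions
of `E` act through an additive group of matrices.
-/

set_option autoImplicit false
set_option linter.style.haveILetI false

open Matrix

namespace Cfsg.Agent.Solv.FourGen

open Mat

variable {G : Type*} [Group G]

/-- The involution with given coordinates. -/
def iota (a b : G) (v : V2) : G := (a ^ 2) ^ (v 0).val * (b ^ 2) ^ (v 1).val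

/-- Generators of `E`, giving coordinates on its elements of square one. -/
structure Frame (T : Data G) where
  a : G
  b : G
  ha : a ∈ T.E
  hb : b ∈ T.E
  surj : ∀ w ∈ T.W, ∃ v, iota a b v = w
  inj : ∀ v, iota a b v = 1 → v = 0

theorem exists_frame [Finite G] (T : Data G) (hW : Nat.card T.W ≤ 4) (hE : Nat.card T.E = 16) :
    Nonempty (Frame T) := by
  let f : T.E →* T.W :=
    { toFun := fun e => ⟨e.1 ^ 2, pow_mem e.2 2, by rw [← pow_mul]; exact T.exp _ e.2⟩
      map_one' := Subtype.ext (one_pow 2)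
      map_mul' := fun a b => Subtype.ext ((T.comm _ a.2 _ b.2).mul_pow 2) }
  have h1 := f.ker.card_mul_index
  rw [Subgroup.index_ker, hE] at h1
  have h3 : Nat.card f.range ≤ Nat.card T.W := Subgroup.card_le_card_group _
  have h5 : Nat.card f.ker ≤ Nat.card T.W := by
    refine Nat.card_le_card_of_injective (fun a : f.ker => (⟨a.1.1, a.1.2,
      congrArg Subtype.val (MonoidHom.mem_ker.1 a.2)⟩ : T.W)) fun a b hab => ?_
    exact Subtype.ext (Subtype.ext (congrArg (fun z : T.W => z.1) hab))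
  have hW4 : Nat.card T.W = 4 := by
    refine le_antisymm hW ?_
    by_contra h
    have := Nat.mul_le_mul (h5.trans (show Nat.card T.W ≤ 3 by omega))
      (h3.trans (show Nat.card T.W ≤ 3 by omega))
    omega
  have hsurj : f.range = ⊤ := by
    refine Subgroup.eq_top_of_card_eq _ (le_antisymm h3 ?_)
    by_contra h
    have := Nat.mul_le_mul (h5.trans hW) (show Nat.card f.range ≤ 3 by omega)
    omega
  haveI : Nontrivial T.W := Finite.one_lt_card_iff_nontrivial.1 (by omega)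
  obtain ⟨w₁, hw₁⟩ := exists_ne (1 : T.W)
  obtain ⟨w₂, hw₂⟩ : ∃ w₂ : T.W, w₂ ≠ 1 ∧ w₂ ≠ w₁ := by
    by_contra hcon
    push Not at hcon
    let g : T.W → Bool := fun x => by classical exact decide (x = 1)
    have hg : Function.Injective g := by
      intro x y hxy
      simp only [g, decide_eq_decide] at hxy
      by_cases hx : x = 1
      · rw [hx, hxy.1 hx]
      · rw [hcon x hx, hcon y fun h => hx (hxy.2 h)]
    have := Nat.card_le_card_of_injective g hg
    rw [Nat.card_eq_fintype_card (α := Bool), Fintype.card_bool] at this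
    omega
  obtain ⟨a, ha⟩ : ∃ a, f a = w₁ := MonoidHom.mem_range.1 (hsurj ▸ Subgroup.mem_top w₁)
  obtain ⟨b, hb⟩ : ∃ b, f b = w₂ := MonoidHom.mem_range.1 (hsurj ▸ Subgroup.mem_top w₂)
  let j : V2 → T.W := fun v => w₁ ^ (v 0).val * w₂ ^ (v 1).val
  have hj : ∀ v, (j v : G) = iota a.1 b.1 v := by
    intro v
    simp only [j, iota, Subgroup.coe_mul, SubgroupClass.coe_pow, ← ha, ← hb]
    rfl
  have hinj : ∀ v, iota a.1 b.1 v = 1 → v = 0 := by
    intro v hv
    have hv' : j v = 1 := Subtype.ext (by rw [hj, hv]; rfl)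
    have h2 : w₂ * w₂ = 1 := Subtype.ext (by rw [Subgroup.coe_mul, ← pow_two]; exact w₂.2.2)
    have hz : ∀ i : ZMod 2, i = 0 ∨ i = 1 := by decide
    rcases hz (v 0) with h0 | h0 <;> rcases hz (v 1) with h1' | h1'
    · ext i; fin_cases i <;> assumption
    · exact absurd (by simpa [j, h0, h1', ZMod.val_one] using hv') hw₂.1
    · exact absurd (by simpa [j, h0, h1', ZMod.val_one] using hv') hw₁
    · exfalso
      have h : w₁ * w₂ = 1 := by simpa [j, h0, h1', ZMod.val_one] using hv'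
      exact hw₂.2 (mul_right_cancel (h.trans h2.symm)).symm
  have hadd : ∀ v w, j v = j w → v = w := by
    intro v w h
    have hc : ∀ x y : T.W, x * y = y * x := fun x y => Subtype.ext (T.comm _ x.2.1 _ y.2.1).eq
    have hjadd : j (v + w) = j v * j w := by
      have hsq : ∀ x : T.W, x ^ 2 = 1 := fun x => Subtype.ext x.2.2
      have hpow : ∀ (x : T.W) (i k : ZMod 2), x ^ (i + k).val = x ^ i.val * x ^ k.val := fun x i k => by
        rw [← pow_add, ZMod.val_add, ← pow_mod_orderOf, ← pow_mod_orderOf x (i.val + k.val),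
          Nat.mod_mod_of_dvd _ (orderOf_dvd_of_pow_eq_one (hsq x))]
      simp only [j, Pi.add_apply, hpow]
      exact Commute.mul_mul_mul_comm (hc _ _) _ _
    have h0 : iota a.1 b.1 (v + w) = 1 := by
      rw [← hj, hjadd, h]
      have := (j w).2.2
      rw [pow_two] at this
      exact this
    have := hinj _ h0
    ext i
    have h01 : ∀ x y : ZMod 2, x + y = 0 → x = y := by decide
    exact h01 _ _ (congrFun this i)
  have hjbij : Function.Bijective j :=
    (Nat.bijective_iff_injective_and_card j).2 ⟨hadd, by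
      rw [hW4, Nat.card_eq_fintype_card]; rfl⟩
  exact ⟨⟨a.1, b.1, a.2, b.2, fun w hw => by
    obtain ⟨v, hv⟩ := hjbij.2 ⟨w, hw⟩
    exact ⟨v, (hj v).symm.trans (congrArg Subtype.val hv)⟩, hinj⟩⟩

namespace Frame

variable {T : Data G} (F : Frame T)

/-- The coordinates. -/
def ι (v : V2) : G := iota F.a F.b v

/-- A square root of `ι v`. -/
def root (v : V2) : G := F.a ^ (v 0).val * F.b ^ (v 1).val

theorem root_mem (v : V2) : F.root v ∈ T.E := mul_mem (pow_mem F.ha _) (pow_mem F.hb _)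

theorem root_sq (v : V2) : F.root v ^ 2 = F.ι v := by
  rw [root, (T.comm _ (pow_mem F.ha _) _ (pow_mem F.hb _)).mul_pow, ← pow_mul, ← pow_mul, mul_comm,
    pow_mul, mul_comm (v 1).val, pow_mul]
  rfl

theorem ι_mem (v : V2) : F.ι v ∈ T.W := by
  refine ⟨by rw [← root_sq]; exact pow_mem (F.root_mem v) 2, ?_⟩
  rw [← root_sq, ← pow_mul]
  exact T.exp _ (F.root_mem v)

theorem ι_zero : F.ι 0 = 1 := by simp [ι, iota]

theorem ι_add (v w : V2) : F.ι (v + w) = F.ι v * F.ι w := by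
  have hpow : ∀ x ∈ T.E, ∀ i k : ZMod 2, (x ^ 2) ^ (i + k).val = (x ^ 2) ^ i.val * (x ^ 2) ^ k.val :=
    fun x hx i k => by
      have h2 : orderOf (x ^ 2) ∣ 2 := orderOf_dvd_of_pow_eq_one (by rw [← pow_mul]; exact T.exp x hx)
      rw [← pow_add, ZMod.val_add, ← pow_mod_orderOf, ← pow_mod_orderOf (x ^ 2) (i.val + k.val),
        Nat.mod_mod_of_dvd _ h2]
  simp only [ι, iota, Pi.add_apply, hpow _ F.ha, hpow _ F.hb]
  exact Commute.mul_mul_mul_comm (T.comm _ (pow_mem (pow_mem F.ha 2) _) _ (pow_mem (pow_mem F.hb 2) _))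
    _ _

theorem ι_inj {v w : V2} (h : F.ι v = F.ι w) : v = w := by
  have h1 : F.ι (v + w) = 1 := by
    rw [ι_add, h, ← pow_two]
    exact (F.ι_mem w).2
  have := F.inj _ h1
  ext i
  have h01 : ∀ x y : ZMod 2, x + y = 0 → x = y := by decide
  exact h01 _ _ (congrFun this i)

theorem ι_inv (v : V2) : (F.ι v)⁻¹ = F.ι v := by
  rw [inv_eq_iff_mul_eq_one, ← pow_two]
  exact (F.ι_mem v).2

theorem exists_coord {e : G} (he : e ∈ T.E) : ∃ v, F.ι v = e ^ 2 :=
  F.surj _ ⟨pow_mem he 2, by rw [← pow_mul]; exact T.exp e he⟩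

theorem decomp {e : G} (he : e ∈ T.E) {v : V2} (hv : F.ι v = e ^ 2) :
    ∃ u, e = F.root v * F.ι u := by
  obtain ⟨u, hu⟩ := F.surj ((F.root v)⁻¹ * e) ⟨mul_mem (inv_mem (F.root_mem v)) he, by
    rw [((T.comm _ (F.root_mem v) _ he).inv_left).mul_pow, inv_pow, root_sq, hv, inv_mul_cancel]⟩
  exact ⟨u, by rw [show F.ι u = iota F.a F.b u from rfl, hu, mul_inv_cancel_left]⟩

/-- The kernel of the action on the involutions of `E`. -/
def G1 (_F : Frame T) : Subgroup G := Subgroup.centralizer (T.W : Set G)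

theorem mem_G1 {g : G} : g ∈ F.G1 ↔ ∀ v, Commute g (F.ι v) := by
  refine Subgroup.mem_centralizer_iff.trans ⟨fun h v => (h _ (F.ι_mem v)).symm, fun h w hw => ?_⟩
  obtain ⟨v, rfl⟩ := F.surj w hw
  exact (h v).eq.symm

theorem C_le_G1 : T.C ≤ F.G1 := fun _ hc => F.mem_G1.2 fun v => T.mem_C.1 hc _ (F.ι_mem v).1

theorem G1_normal : F.G1.Normal :=
  haveI := T.W_normal
  Subgroup.normal_centralizer

/-- `g` fixes the involutions of `E` and acts through the matrix `M`. -/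
def Act (g : G) (M : M2) : Prop :=
  ∀ e ∈ T.E, ∀ v, F.ι v = e ^ 2 → g * e * g⁻¹ = e * F.ι (M *ᵥ v)

/-- `k` acts on the involutions of `E` through the matrix `U`. -/
def Lin (k : G) (U : M2) : Prop := ∀ v, k * F.ι v * k⁻¹ = F.ι (U *ᵥ v)

theorem ext_mulVec {M N : M2} (h : ∀ v, M *ᵥ v = N *ᵥ v) : M = N :=
  Matrix.toLin'.injective (LinearMap.ext fun v => by simpa using h v)

theorem act_mem_G1 {g : G} {M : M2} (h : F.Act g M) : g ∈ F.G1 := by
  refine F.mem_G1.2 fun v => ?_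
  have h1 := h (F.ι v) (F.ι_mem v).1 0 (by rw [ι_zero, (F.ι_mem v).2])
  rw [mulVec_zero, ι_zero, mul_one] at h1
  exact mul_inv_eq_iff_eq_mul.1 h1

theorem act_root {g : G} {M : M2} (h : F.Act g M) (v : V2) :
    g * F.root v * g⁻¹ = F.root v * F.ι (M *ᵥ v) :=
  h _ (F.root_mem v) v (F.root_sq v).symm

theorem act_unique {g : G} {M N : M2} (hM : F.Act g M) (hN : F.Act g N) : M = N :=
  ext_mulVec fun v => F.ι_inj (mul_left_cancel ((F.act_root hM v).symm.trans (F.act_root hN v)))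

theorem exists_act {g : G} (hg : g ∈ F.G1) : ∃ M, F.Act g M := by
  have hcol : ∀ c ∈ T.E, ∃ u, g * c * g⁻¹ = c * F.ι u := by
    intro c hc
    obtain ⟨v, hv⟩ := F.exists_coord hc
    have hgc : g * c * g⁻¹ ∈ T.E := T.normal.conj_mem c hc g
    obtain ⟨u, hu⟩ := F.surj (c⁻¹ * (g * c * g⁻¹)) ⟨mul_mem (inv_mem hc) hgc, by
      rw [((T.comm _ hc _ hgc).inv_left).mul_pow, conj_pow, inv_pow, ← hv, (F.mem_G1.1 hg v).eq,
        mul_inv_cancel_right, inv_mul_cancel]⟩
    exact ⟨u, by rw [show F.ι u = iota F.a F.b u from rfl, hu, mul_inv_cancel_left]⟩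
  obtain ⟨u₀, h₀⟩ := hcol F.a F.ha
  obtain ⟨u₁, h₁⟩ := hcol F.b F.hb
  refine ⟨Matrix.of ![![u₀ 0, u₁ 0], ![u₀ 1, u₁ 1]], fun e he v hv => ?_⟩
  obtain ⟨u, rfl⟩ := F.decomp he hv
  have hz : ∀ i : ZMod 2, i = 0 ∨ i = 1 := by decide
  have hroot : g * F.root v * g⁻¹ =
      F.root v * F.ι (Matrix.of ![![u₀ 0, u₁ 0], ![u₀ 1, u₁ 1]] *ᵥ v) := by
    have hM : Matrix.of ![![u₀ 0, u₁ 0], ![u₀ 1, u₁ 1]] *ᵥ v = v 0 • u₀ + v 1 • u₁ := by
      ext i
      fin_cases i <;> simp [Matrix.mulVec, dotProduct, Fin.sum_univ_two] <;> ring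
    rw [hM, root]
    rcases hz (v 0) with e0 | e0 <;> rcases hz (v 1) with e1 | e1 <;>
      simp only [e0, e1, ZMod.val_zero, ZMod.val_one, pow_zero, pow_one, one_mul, mul_one, zero_smul,
        one_smul, add_zero, zero_add]
    · rw [mul_inv_cancel, ι_zero]
    · exact h₁
    · exact h₀
    · rw [ι_add]
      calc g * (F.a * F.b) * g⁻¹ = (g * F.a * g⁻¹) * (g * F.b * g⁻¹) := by group
        _ = F.a * F.ι u₀ * (F.b * F.ι u₁) := by rw [h₀, h₁]
        _ = _ := Commute.mul_mul_mul_comm (T.comm _ (F.ι_mem u₀).1 _ F.hb) _ _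
  calc g * (F.root v * F.ι u) * g⁻¹ = (g * F.root v * g⁻¹) * (g * F.ι u * g⁻¹) := by group
    _ = F.root v * F.ι (Matrix.of ![![u₀ 0, u₁ 0], ![u₀ 1, u₁ 1]] *ᵥ v) * F.ι u := by
      rw [hroot, (F.mem_G1.1 hg u).eq, mul_inv_cancel_right]
    _ = _ := by
      rw [mul_assoc, mul_assoc, (T.comm _ (F.ι_mem _).1 _ (F.ι_mem u).1).eq]

theorem act_mul {g h : G} {M N : M2} (hg : F.Act g M) (hh : F.Act h N) :
    F.Act (g * h) (M + N) := by
  intro e he v hv
  have hgι := (F.mem_G1.1 (F.act_mem_G1 hg) (N *ᵥ v)).eq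
  calc g * h * e * (g * h)⁻¹ = g * (h * e * h⁻¹) * g⁻¹ := by group
    _ = (g * e * g⁻¹) * (g * F.ι (N *ᵥ v) * g⁻¹) := by rw [hh e he v hv]; group
    _ = e * F.ι (M *ᵥ v) * F.ι (N *ᵥ v) := by rw [hg e he v hv, hgι, mul_inv_cancel_right]
    _ = _ := by rw [mul_assoc, ← ι_add, ← add_mulVec]

theorem act_C {c : G} (hc : c ∈ T.C) : F.Act c 0 := by
  intro e he v _
  rw [zero_mulVec, ι_zero, mul_one, (T.mem_C.1 hc e he).eq, mul_inv_cancel_right]

theorem mem_C_of_act {g : G} (h : F.Act g 0) : g ∈ T.C := by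
  refine T.mem_C.2 fun e he => ?_
  obtain ⟨v, hv⟩ := F.exists_coord he
  have h1 := h e he v hv
  rw [zero_mulVec, ι_zero, mul_one] at h1
  exact mul_inv_eq_iff_eq_mul.1 h1

theorem add_self (M : M2) : M + M = 0 := CharTwo.add_self_eq_zero M

theorem act_sq {g : G} {M : M2} (h : F.Act g M) : g * g ∈ T.C :=
  F.mem_C_of_act (by simpa [add_self] using F.act_mul h h)

theorem act_inv {g : G} {M : M2} (h : F.Act g M) : F.Act g⁻¹ M := by
  obtain ⟨N, hN⟩ := F.exists_act (inv_mem (F.act_mem_G1 h))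
  have h1 : M + N = 0 := F.act_unique (by simpa using F.act_mul h hN) (F.act_C (one_mem _))
  have h2 : N = M := by
    calc N = M + (M + N) := by rw [← add_assoc, add_self, zero_add]
      _ = M := by rw [h1, add_zero]
  rwa [← h2]

theorem exists_lin (k : G) : ∃ U, F.Lin k U := by
  have hconj : ∀ v, ∃ u, F.ι u = k * F.ι v * k⁻¹ := fun v => F.surj _ (T.W_normal.conj_mem _ (F.ι_mem v) k)
  obtain ⟨u₀, h₀⟩ := hconj ![1, 0]
  obtain ⟨u₁, h₁⟩ := hconj ![0, 1]
  refine ⟨Matrix.of ![![u₀ 0, u₁ 0], ![u₀ 1, u₁ 1]], fun v => ?_⟩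
  have hM : Matrix.of ![![u₀ 0, u₁ 0], ![u₀ 1, u₁ 1]] *ᵥ v = v 0 • u₀ + v 1 • u₁ := by
    ext i
    fin_cases i <;> simp [Matrix.mulVec, dotProduct, Fin.sum_univ_two] <;> ring
  rw [hM]
  have hz : ∀ i : ZMod 2, i = 0 ∨ i = 1 := by decide
  have hv : v = v 0 • ![1, 0] + v 1 • ![0, 1] := by ext i; fin_cases i <;> simp
  conv_lhs => rw [hv]
  rcases hz (v 0) with e0 | e0 <;> rcases hz (v 1) with e1 | e1 <;>
    simp only [e0, e1, zero_smul, one_smul, add_zero, zero_add]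
  · rw [ι_zero, mul_one, mul_inv_cancel]
  · exact h₁.symm
  · exact h₀.symm
  · rw [ι_add, ι_add, h₀, h₁]
    group

theorem lin_unique {k : G} {U U' : M2} (h : F.Lin k U) (h' : F.Lin k U') : U = U' :=
  ext_mulVec fun v => F.ι_inj ((h v).symm.trans (h' v))

theorem lin_mul {k l : G} {U U' : M2} (h : F.Lin k U) (h' : F.Lin l U') :
    F.Lin (k * l) (U * U') := by
  intro v
  calc k * l * F.ι v * (k * l)⁻¹ = k * (l * F.ι v * l⁻¹) * k⁻¹ := by group
    _ = _ := by rw [h' v, h (U' *ᵥ v), mulVec_mulVec]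

theorem lin_one_iff {k : G} : F.Lin k 1 ↔ k ∈ F.G1 := by
  rw [mem_G1]
  refine forall_congr' fun v => ?_
  rw [one_mulVec, mul_inv_eq_iff_eq_mul]
  exact Iff.rfl

theorem lin_sq (h2 : IsPGroup 2 G) {k : G} {U : M2} (h : F.Lin k U) : U * U = 1 := by
  obtain ⟨n, hn⟩ := h2 k
  induction n generalizing k U with
  | zero =>
    rw [pow_zero, pow_one] at hn
    subst hn
    rw [F.lin_unique h (F.lin_one_iff.2 (one_mem _)), one_mul]
  | succ n ih =>
    exact sq_one_of_four U (ih (k := k * k) (F.lin_mul h h) (by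
      rw [← pow_two, ← pow_mul, ← pow_succ']; exact hn))

theorem lin_eq (h2 : IsPGroup 2 G) {k l : G} {U U' : M2} (h : F.Lin k U) (h' : F.Lin l U')
    (hU : U ≠ 1) (hU' : U' ≠ 1) : U = U' :=
  invol_unique U U' (F.lin_sq h2 h) (F.lin_sq h2 h') (F.lin_sq h2 (F.lin_mul h h')) hU hU'

theorem act_conj {g k : G} {M M' U : M2} (hg : F.Act g M) (hk : F.Lin k U)
    (hg' : F.Act (k * g * k⁻¹) M') : M' * U = U * M := by
  refine ext_mulVec fun v => ?_
  rw [← mulVec_mulVec, ← mulVec_mulVec]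
  have h1 := hg' (k * F.root v * k⁻¹) (T.normal.conj_mem _ (F.root_mem v) k) (U *ᵥ v)
    (by rw [conj_pow, root_sq, hk v])
  have h2 : k * g * k⁻¹ * (k * F.root v * k⁻¹) * (k * g * k⁻¹)⁻¹ =
      k * F.root v * k⁻¹ * (k * F.ι (M *ᵥ v) * k⁻¹) := by
    calc _ = k * (g * F.root v * g⁻¹) * k⁻¹ := by group
      _ = _ := by rw [F.act_root hg v]; group
  rw [hk (M *ᵥ v)] at h2
  exact F.ι_inj (mul_left_cancel (h1.symm.trans h2))

theorem act_conj' (h2 : IsPGroup 2 G) {g k : G} {M U : M2} (hg : F.Act g M) (hk : F.Lin k U) :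
    F.Act (k * g * k⁻¹) (U * M * U) := by
  obtain ⟨M', hM'⟩ := F.exists_act (F.G1_normal.conj_mem g (F.act_mem_G1 hg) k)
  have h := F.act_conj hg hk hM'
  have : M' = U * M * U := by
    rw [← h, mul_assoc, F.lin_sq h2 hk, mul_one]
  rwa [← this]

end Frame

end Cfsg.Agent.Solv.FourGen
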