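import Cfsg.Agent.Lib.Solv.FourGen.Frame

/-!
A `2`-group without a normal elementary abelian subgroup of order eight cannot act too richly on a
normal `Z₄ × Z₄`.
-/

set_option autoImplicit false
set_option linter.style.haveILetI false

open Matrix

namespace Cfsg.Agent.Solv.FourGen

open Mat

variable {G : Type*} [Group G]

/-- No normal elementary abelian subgroup has more than four elements. -/
def NoEight (G : Type*) [Group G] : Prop :=
  ∀ A : Subgroup G, A.Normal → IsMulCommutative A → (∀ a ∈ A, a ^ 2 = 1) → Nat.card A ≤ 4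

theorem Data.card_W_le (T : Data G) (hA : NoEight G) : Nat.card T.W ≤ 4 :=
  hA T.W T.W_normal ⟨⟨fun a b => Subtype.ext (T.comm _ a.2.1 _ b.2.1).eq⟩⟩ fun _ ha => ha.2

namespace Frame

variable {T : Data G} (F : Frame T)

/-- The matrix commutes with the action on the involutions. -/
def Fix (m : M2) : Prop := ∀ k U, F.Lin k U → U * m = m * U

include F in
theorem four_le_card [Finite G] : 4 ≤ Nat.card T.W := by
  have h := Nat.card_le_card_of_injective (fun v : V2 => (⟨F.ι v, F.ι_mem v⟩ : T.W))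
    fun v w h => F.ι_inj (congrArg Subtype.val h)
  rw [Nat.card_eq_fintype_card (α := V2)] at h
  simpa using h

theorem fix_of_lin (h2 : IsPGroup 2 G) {k : G} {U : M2} (hk : F.Lin k U) (hU : U ≠ 1) :
    F.Fix (U + 1) := by
  intro l V hl
  by_cases hV : V = 1
  · rw [hV, one_mul, mul_one]
  · rw [F.lin_eq h2 hl hk hV hU, (transvection U (F.lin_sq h2 hk) hU).1]

variable (h2 : IsPGroup 2 G)

include h2 in
theorem inverted {x : G} {m : M2} (hx : F.Act x m)
    (hm : ∀ v : V2, (1 + m) *ᵥ v = 0 → v = 0) {c : G} (hc : c ∈ T.C)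
    (hcx : x * c * x⁻¹ = c⁻¹) : c ∈ T.W := by
  obtain ⟨k, hk⟩ := exists_pow_two h2 c
  induction k generalizing c with
  | zero => rw [pow_zero, pow_one] at hk; rw [hk]; exact one_mem _
  | succ k ih =>
    have h := ih (pow_mem hc 2) (by rw [← conj_pow, hcx, inv_pow])
      (by rw [← pow_mul, ← pow_succ']; exact hk)
    have hcE : c ∈ T.E := T.absorb c (T.mem_C.1 hc)
      (by rw [show (4 : ℕ) = 2 * 2 from rfl, pow_mul]; exact h.2)
    obtain ⟨v, hv⟩ := F.exists_coord hcE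
    have h1 := hx c hcE v hv
    rw [hcx] at h1
    have h3 : F.ι (m *ᵥ v) = F.ι v := by
      calc F.ι (m *ᵥ v) = c⁻¹ * (c * F.ι (m *ᵥ v)) := (inv_mul_cancel_left _ _).symm
        _ = (c ^ 2)⁻¹ := by rw [← h1, pow_two]; group
        _ = _ := by rw [← hv, ι_inv]
    have h4 : v = 0 := hm v (by
      rw [add_mulVec, one_mulVec, F.ι_inj h3]
      exact CharTwo.add_self_eq_zero v)
    exact ⟨hcE, by rw [← hv, h4, ι_zero]⟩

include h2 in
theorem exists_invol {g : G} {m : M2} (hg : F.Act g m)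
    (hm : ∀ v : V2, (1 + m) *ᵥ v = 0 → v = 0) {s : G} (hs : s ∈ T.C) (hgs : g * g = s ^ 2) :
    ∃ x, F.Act x m ∧ x * x = 1 := by
  set d := s⁻¹ * (g * s * g⁻¹) with hd
  have hdC : d ∈ T.C := mul_mem (inv_mem hs) (T.C_normal.conj_mem s hs g)
  have hcm : Commute (s ^ 2) g := by
    rw [← hgs]
    exact (Commute.refl g).mul_left (Commute.refl g)
  have hconj : s * d * s⁻¹ = d⁻¹ * 1 := by
    have e : s ^ 2 * g⁻¹ = g⁻¹ * s ^ 2 := hcm.inv_right.eq
    have e2 : s * g⁻¹ * s⁻¹ = s⁻¹ * g⁻¹ * s := by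
      calc s * g⁻¹ * s⁻¹ = s⁻¹ * (s ^ 2 * g⁻¹) * s⁻¹ := by group
        _ = s⁻¹ * (g⁻¹ * s ^ 2) * s⁻¹ := by rw [e]
        _ = _ := by group
    calc s * d * s⁻¹ = g * (s * g⁻¹ * s⁻¹) * 1 * 1 * 1 := by rw [hd]; group
      _ = g * (s⁻¹ * g⁻¹ * s) * 1 * 1 * 1 := by rw [e2]
      _ = _ := by rw [hd]; group
  have hd4 : d ^ 4 = 1 := pow_four_eq_one (h2 d) (Commute.one_right d) (one_pow 2) hconj
    (fun n hn => by rw [← (T.central (pow_mem hdC n) hn hs).eq, mul_inv_cancel_right])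
  have hdE : d ∈ T.E := T.absorb d (T.mem_C.1 hdC) hd4
  rw [← (T.central hdC hd4 hs).eq, mul_inv_cancel_right, mul_one] at hconj
  have hd2 : d ^ 2 = 1 := by rw [pow_two]; nth_rewrite 2 [hconj]; exact mul_inv_cancel d
  obtain ⟨w, hw⟩ := F.surj d ⟨hdE, hd2⟩
  change F.ι w = d at hw
  have hsurj : Function.Surjective fun v : V2 => (1 + m) *ᵥ v :=
    Finite.injective_iff_surjective.1 fun v v' hvv => sub_eq_zero.1
      (hm (v - v') (by rw [mulVec_sub, sub_eq_zero]; exact hvv))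
  obtain ⟨v, hv⟩ := hsurj w
  refine ⟨g * (s⁻¹ * F.root v), ?_, ?_⟩
  · simpa using F.act_mul hg (F.act_C (mul_mem (inv_mem hs) (T.E_le (F.root_mem v))))
  set e := F.root v with he
  have heE : e ∈ T.E := F.root_mem v
  have hce : Commute e s⁻¹ := ((T.mem_C.1 hs e heE).inv_left).symm
  have hci : Commute (F.ι (m *ᵥ v)) s⁻¹ := ((T.mem_C.1 hs _ (F.ι_mem _).1).inv_left).symm
  have h1 : g⁻¹ * e * g = e * F.ι (m *ᵥ v) := by
    have := F.act_root (F.act_inv hg) v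
    rwa [inv_inv] at this
  have h3 : g * s⁻¹ * g = F.ι w * s := by
    calc g * s⁻¹ * g = (g * s * g⁻¹)⁻¹ * (g * g) := by group
      _ = (s * d)⁻¹ * s ^ 2 := by rw [hgs, hd, mul_inv_cancel_left]
      _ = _ := by
        rw [_root_.mul_inv_rev, ← hw, ι_inv, pow_two]
        group
  calc g * (s⁻¹ * e) * (g * (s⁻¹ * e)) = g * s⁻¹ * g * ((g⁻¹ * e * g) * s⁻¹) * e := by group
    _ = F.ι w * s * (e * F.ι (m *ᵥ v) * s⁻¹) * e := by rw [h1, h3]
    _ = F.ι w * (F.ι (m *ᵥ v) * e ^ 2) := by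
      rw [(hce.mul_left hci).eq, (T.comm _ heE _ (F.ι_mem (m *ᵥ v)).1).eq, pow_two]
      group
    _ = 1 := by
      have e3 : w + (m *ᵥ v + v) = 0 := by
        rw [← hv]
        simp only [add_mulVec, one_mulVec]
        rw [add_comm (m *ᵥ v) v]
        exact CharTwo.add_self_eq_zero _
      rw [he, root_sq, ← ι_add, ← ι_add, e3, ι_zero]

variable [Finite G] (hA : NoEight G)

include h2 in
theorem exists_invol' (hW : Nat.card T.W ≤ 4) {g : G} {m : M2} (hg : F.Act g m)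
    (hm : ∀ v : V2, (1 + m) *ᵥ v = 0 → v = 0) (hgs : g * g ∈ sq T.C) :
    ∃ x, F.Act x m ∧ x * x = 1 := by
  obtain ⟨s, hs, he⟩ := T.exists_root h2 hW hgs
  exact F.exists_invol h2 hg hm hs he

include h2 hA in
theorem no_fix {g : G} {m : M2} (hg : F.Act g m) (hm : ∀ v : V2, (1 + m) *ᵥ v = 0 → v = 0)
    (hm0 : m ≠ 0) (hfix : F.Fix m) (hgs : g * g ∈ sq T.C) : False := by
  obtain ⟨x, hx, hx2⟩ := F.exists_invol' h2 (T.card_W_le hA) hg hm hgs
  haveI := T.W_normal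
  set A : Subgroup G := T.W ⊔ Subgroup.zpowers x with hAdef
  have hdec : ∀ a ∈ A, ∃ w ∈ T.W, ∃ i : ℤ, a = w * x ^ i := by
    intro a ha
    rw [hAdef, ← SetLike.mem_coe, Subgroup.normal_mul] at ha
    obtain ⟨w, hw, _, ⟨i, rfl⟩, rfl⟩ := ha
    exact ⟨w, hw, i, rfl⟩
  have hxc : ∀ w ∈ T.W, ∀ i : ℤ, Commute w (x ^ i) := by
    intro w hw i
    obtain ⟨v, rfl⟩ := F.surj w hw
    exact ((F.mem_G1.1 (F.act_mem_G1 hx) v).symm).zpow_right i
  have hxA : x ∈ A := Subgroup.mem_sup_right (Subgroup.mem_zpowers x)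
  have hnorm : A.Normal := by
    refine ⟨fun a ha k => ?_⟩
    obtain ⟨w, hw, i, rfl⟩ := hdec a ha
    rw [← conj_mul, ← conj_zpow]
    refine mul_mem (Subgroup.mem_sup_left (T.W_normal.conj_mem w hw k)) (zpow_mem ?_ i)
    obtain ⟨U, hU⟩ := F.exists_lin k
    have h1 := F.act_conj' h2 hx hU
    rw [show U * m * U = m by rw [hfix k U hU, mul_assoc, F.lin_sq h2 hU, mul_one]] at h1
    have hcC : x⁻¹ * (k * x * k⁻¹) ∈ T.C :=
      F.mem_C_of_act (by simpa [add_self] using F.act_mul (F.act_inv hx) h1)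
    have hxi : x⁻¹ = x := inv_eq_of_mul_eq_one_left hx2
    have hinvd : x * (x⁻¹ * (k * x * k⁻¹)) * x⁻¹ = (x⁻¹ * (k * x * k⁻¹))⁻¹ := by
      calc x * (x⁻¹ * (k * x * k⁻¹)) * x⁻¹ = k * x * k⁻¹ * x⁻¹ := by group
        _ = (k * x⁻¹ * k⁻¹) * x := by rw [hxi]
        _ = _ := by group
    have := mul_mem hxA (Subgroup.mem_sup_left (T := Subgroup.zpowers x)
      (F.inverted h2 hx hm hcC hinvd))
    rwa [mul_inv_cancel_left] at this
  have hcomm : IsMulCommutative A := by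
    refine ⟨⟨fun a b => Subtype.ext ?_⟩⟩
    obtain ⟨u, hu, i, hi⟩ := hdec a a.2
    obtain ⟨w, hw, j, hj⟩ := hdec b b.2
    simp only [Subgroup.coe_mul, hi, hj]
    exact (((T.comm _ hu.1 _ hw.1).mul_right (hxc u hu j)).mul_left
      ((hxc w hw i).symm.mul_right ((Commute.refl x).zpow_zpow i j))).eq
  have hexp : ∀ a ∈ A, a ^ 2 = 1 := by
    intro a ha
    obtain ⟨w, hw, i, rfl⟩ := hdec a ha
    rw [(hxc w hw i).mul_pow, hw.2, one_mul, pow_two, ← (Commute.refl x).mul_zpow, hx2, _root_.one_zpow]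
  have hxW : x ∉ T.W := fun h => hm0 (F.act_unique hx (F.act_C (T.E_le h.1)))
  have hlt : T.W < A := lt_of_le_of_ne le_sup_left fun h => hxW (h.symm ▸ hxA)
  have h1 : Nat.card T.W < Nat.card A :=
    (Subgroup.card_le_of_le hlt.le).lt_of_ne fun he =>
      hlt.ne (Subgroup.eq_of_le_of_card_ge hlt.le he.ge)
  have := F.four_le_card
  have := hA A hnorm hcomm hexp
  omega

include h2 in
theorem quad {c : G} (hc : c ∈ T.C) (h8 : c ^ 8 = 1) {p : V2} (hp : F.ι p = c ^ 4) {g : G}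
    {m : M2} (hg : F.Act g m) :
    (g * g) * c * (g * g)⁻¹ = c * F.ι ((m + m * m) *ᵥ p) := by
  set d := c⁻¹ * (g * c * g⁻¹) with hd
  have hc' : g * c * g⁻¹ ∈ T.C := T.C_normal.conj_mem c hc g
  have hdC : d ∈ T.C := mul_mem (inv_mem hc) hc'
  have hι : ∀ v, g * F.ι v * g⁻¹ = F.ι v := fun v => by
    rw [(F.mem_G1.1 (F.act_mem_G1 hg) v).eq, mul_inv_cancel_right]
  have hd4 : d ^ 4 = 1 := by
    have := mul_pow_four (h2.to_subgroup T.C) (T.central4_sub le_rfl)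
      (x := (⟨c, hc⟩ : T.C)⁻¹) (y := ⟨g * c * g⁻¹, hc'⟩)
      (Subtype.ext (by simp [h8])) (Subtype.ext (by simp [h8]))
    have h1 := congrArg Subtype.val this
    simp only [Subgroup.coe_mul, SubgroupClass.coe_pow, InvMemClass.coe_inv] at h1
    rw [hd, h1, conj_pow, ← hp, hι, inv_pow, ← hp, inv_mul_cancel]
  have hdE : d ∈ T.E := T.absorb d (T.mem_C.1 hdC) hd4
  have hcd : Commute c d := (T.central hdC hd4 hc).symm
  have hgc : g * c * g⁻¹ = c * d := by rw [hd, mul_inv_cancel_left]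
  have hc2 : c ^ 2 ∈ T.E := T.absorb _ (T.mem_C.1 (pow_mem hc 2)) (by rw [← pow_mul]; exact h8)
  have hd2 : d ^ 2 = F.ι (m *ᵥ p) := by
    have h1 := hg _ hc2 p (by rw [← pow_mul]; exact hp)
    rw [← conj_pow, hgc, hcd.mul_pow] at h1
    exact mul_left_cancel h1
  have h3 := hg d hdE (m *ᵥ p) hd2.symm
  calc (g * g) * c * (g * g)⁻¹ = g * (g * c * g⁻¹) * g⁻¹ := by group
    _ = (g * c * g⁻¹) * (g * d * g⁻¹) := by nth_rewrite 1 [hgc]; group
    _ = c * d * (d * F.ι (m *ᵥ (m *ᵥ p))) := by rw [hgc, h3]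
    _ = c * (d ^ 2 * F.ι (m *ᵥ (m *ᵥ p))) := by rw [pow_two]; group
    _ = _ := by rw [hd2, ← ι_add, mulVec_mulVec, ← add_mulVec]

include h2 in
theorem sq_C_comm {c : G} (hc : c ∈ T.C) (h8 : c ^ 8 = 1) {p : V2} (hp : F.ι p = c ^ 4) :
    sq T.C ≤ Subgroup.centralizer {c} := by
  rw [sq, Subgroup.closure_le]
  rintro _ ⟨t, ht, rfl⟩
  have h := F.quad h2 hc h8 hp (F.act_C ht)
  rw [mul_zero, add_zero, zero_mulVec, ι_zero, mul_one, mul_inv_eq_iff_eq_mul] at h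
  dsimp only
  rw [SetLike.mem_coe, Subgroup.mem_centralizer_singleton_iff, pow_two]
  exact h

include h2 in
theorem kill {c : G} (hc : c ∈ T.C) (h8 : c ^ 8 = 1) {p : V2} (hp : F.ι p = c ^ 4) {g : G}
    {m : M2} (hg : F.Act g m) (hgs : g * g ∈ sq T.C) : (m + m * m) *ᵥ p = 0 := by
  have h := F.quad h2 hc h8 hp hg
  rw [Subgroup.mem_centralizer_singleton_iff.1 (F.sq_C_comm h2 hc h8 hp hgs),
    mul_inv_cancel_right, left_eq_mul] at h
  exact F.ι_inj (h.trans F.ι_zero.symm)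

include h2 in
theorem exists_eight (hW : Nat.card T.W ≤ 4) (h : ∃ c ∈ T.C, c ^ 4 ≠ 1) :
    ∃ c, ∃ p : V2, c ∈ T.C ∧ c ^ 8 = 1 ∧ F.ι p = c ^ 4 ∧ p ≠ 0 ∧ ∀ a ∈ T.C, ∀ b ∈ T.C,
      ¬ Commute a c → ¬ Commute b c → Commute (a * b) c := by
  obtain ⟨c₀, hc₀, hc₀4⟩ := h
  obtain ⟨t, ht, hmax⟩ :=
    Set.exists_max_image (T.C : Set G) orderOf (Set.toFinite _) ⟨c₀, hc₀⟩
  haveI := Fact.mk Nat.prime_two
  obtain ⟨j, hj⟩ := IsPGroup.iff_orderOf.1 h2 t
  have hj3 : 3 ≤ j := by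
    by_contra hlt
    obtain ⟨i, hi⟩ := IsPGroup.iff_orderOf.1 h2 c₀
    have h1 := hmax c₀ hc₀
    rw [hi, hj] at h1
    have hij := (Nat.pow_le_pow_iff_right (by norm_num)).1 h1
    exact hc₀4 (orderOf_dvd_iff_pow_eq_one.1
      (hi ▸ Nat.pow_dvd_pow 2 (show i ≤ 2 by omega)))
  set c := t ^ 2 ^ (j - 3) with hc
  have hcC : c ∈ T.C := pow_mem ht _
  have h8 : c ^ 8 = 1 := by
    rw [hc, ← pow_mul, show (8 : ℕ) = 2 ^ 3 from rfl, ← pow_add, Nat.sub_add_cancel hj3, ← hj]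
    exact pow_orderOf_eq_one t
  have h4 : c ^ 4 ≠ 1 := by
    intro h
    have h1 : t ^ 2 ^ (j - 3 + 2) = 1 := by rw [pow_add, pow_mul]; exact h
    have h2' := orderOf_dvd_of_pow_eq_one h1
    rw [hj, Nat.pow_dvd_pow_iff_le_right (by norm_num)] at h2'
    omega
  obtain ⟨p, hp⟩ := F.surj (c ^ 4) (T.mem_W_of_C (pow_mem hcC 4) (by rw [← pow_mul]; exact h8))
  refine ⟨c, p, hcC, h8, hp, fun h0 => h4 ?_, ?_⟩
  · rw [← hp, h0]
    exact F.ι_zero
  change F.ι p = c ^ 4 at hp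
  have htns : t ∉ sq T.C := by
    intro hts
    obtain ⟨s, hs, hts'⟩ := T.exists_root h2 hW hts
    have h1 := hmax s hs
    obtain ⟨i, hi⟩ := IsPGroup.iff_orderOf.1 h2 s
    rw [hi, hj] at h1
    have hij := (Nat.pow_le_pow_iff_right (by norm_num)).1 h1
    have h3 : t ^ 2 ^ (j - 1) = 1 := by
      rw [hts', ← pow_mul, ← pow_succ', Nat.sub_add_cancel (by omega)]
      exact orderOf_dvd_iff_pow_eq_one.1 (hi ▸ Nat.pow_dvd_pow 2 hij)
    have h4' := orderOf_dvd_of_pow_eq_one h3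
    rw [hj, Nat.pow_dvd_pow_iff_le_right (by norm_num)] at h4'
    omega
  set Z := T.C ⊓ Subgroup.centralizer {c} with hZ
  have hsZ : sq T.C ≤ Z := le_inf (sq_le _) (F.sq_C_comm h2 hcC h8 hp)
  have htZ : t ∈ Z := ⟨ht, Subgroup.mem_centralizer_singleton_iff.2 ((Commute.self_pow t _).eq)⟩
  have hm := Subgroup.relIndex_mul_relIndex (sq T.C) Z T.C hsZ inf_le_left
  have h1 : (sq T.C).relIndex Z ≠ 1 := fun h => htns (Subgroup.relIndex_eq_one.1 h htZ)
  have h0 : (sq T.C).relIndex Z ≠ 0 := Subgroup.index_ne_zero_of_finite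
  have hle : (sq T.C).relIndex T.C ≤ 4 := (T.relIndex_sq_le h2 le_rfl).trans hW
  have hk : Z.relIndex T.C ≤ 2 := by
    by_contra hgt
    have := Nat.mul_le_mul (show 2 ≤ (sq T.C).relIndex Z by omega) (show 3 ≤ Z.relIndex T.C by omega)
    omega
  intro a ha b hb hac hbc
  have hk1 : Z.relIndex T.C ≠ 1 := fun h => hac
    (Subgroup.mem_centralizer_singleton_iff.1 (Subgroup.relIndex_eq_one.1 h ha).2)
  have hk0 : Z.relIndex T.C ≠ 0 := Subgroup.index_ne_zero_of_finite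
  have hk2 : (Z.subgroupOf T.C).index = 2 := by
    change Z.relIndex T.C = 2
    omega
  have h5 := (Subgroup.mul_mem_iff_of_index_two hk2 (a := (⟨a, ha⟩ : T.C)) (b := ⟨b, hb⟩)).2
    ⟨fun h => absurd (Subgroup.mem_centralizer_singleton_iff.1 h.2) hac,
     fun h => absurd (Subgroup.mem_centralizer_singleton_iff.1 h.2) hbc⟩
  exact Subgroup.mem_centralizer_singleton_iff.1 h5.2

include h2 hA in
theorem full_false (hfull : ∀ m, ∃ g, F.Act g m) : False := by
  have hW := T.card_W_le hA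
  by_cases hC : ∃ c ∈ T.C, c ^ 4 ≠ 1
  · obtain ⟨c, p, hc, h8, hp, hp0, hK⟩ := F.exists_eight h2 hW hC
    obtain ⟨m₁, m₂, h1, h2', h12⟩ := two_values p hp0
    obtain ⟨g, hg⟩ := hfull m₁
    obtain ⟨k, hk⟩ := hfull m₂
    have e1 := F.quad h2 hc h8 hp hg
    have e2 := F.quad h2 hc h8 hp hk
    set q₁ := (m₁ + m₁ * m₁) *ᵥ p
    set q₂ := (m₂ + m₂ * m₂) *ᵥ p
    have hnc : ∀ x q, x * c * x⁻¹ = c * F.ι q → q ≠ 0 → ¬ Commute x c := fun x q hx hq hcm =>
      hq (F.ι_inj (Eq.trans (left_eq_mul.1 (by rw [← hx, hcm.eq, mul_inv_cancel_right]))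
        F.ι_zero.symm))
    have hcm := hK _ (F.act_sq hg) _ (F.act_sq hk) (hnc _ _ e1 h1) (hnc _ _ e2 h2')
    apply h12
    have e3 : c * (F.ι q₁ * F.ι q₂) = c := by
      calc c * (F.ι q₁ * F.ι q₂) = (g * g) * c * (g * g)⁻¹ * F.ι q₂ := by rw [e1, mul_assoc]
        _ = (g * g) * (c * F.ι q₂) * (g * g)⁻¹ := by
          have hq : Commute (g * g) (F.ι q₂) := T.mem_C.1 (F.act_sq hg) _ (F.ι_mem _).1
          rw [mul_assoc ((g * g) * c), hq.inv_left.eq]
          group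
        _ = ((g * g) * (k * k)) * c * ((g * g) * (k * k))⁻¹ := by rw [← e2]; group
        _ = c := by rw [hcm.eq, mul_inv_cancel_right]
    have e4 : F.ι (q₁ + q₂) = 1 := by
      rw [ι_add]
      exact mul_left_cancel (e3.trans (mul_one c).symm)
    exact CharTwo.add_eq_zero.1 (F.inj _ e4)
  · push Not at hC
    have hCE : ∀ c ∈ T.C, c ∈ T.E := fun c hc => T.absorb c (T.mem_C.1 hc) (hC c hc)
    have hWsq : ∀ w ∈ T.W, w ∈ sq T.C := fun w hw => by
      obtain ⟨v, rfl⟩ := F.surj w hw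
      change F.ι v ∈ _
      rw [← root_sq]
      exact sq_mem (T.E_le (F.root_mem v))
    have hfixed : ∀ {x : G}, F.Act x omega → ∀ e ∈ T.E, x * e * x⁻¹ = e → e ∈ T.W := by
      intro x hx e he hxe
      obtain ⟨v, hv⟩ := F.exists_coord he
      have h1 := hx e he v hv
      rw [hxe, left_eq_mul] at h1
      exact ⟨he, by rw [← hv, omega_ne.2.2 v (F.ι_inj (h1.trans F.ι_zero.symm)), ι_zero]⟩
    obtain ⟨g, hg⟩ := hfull omega
    obtain ⟨x, hx, hx2⟩ := F.exists_invol' h2 hW hg omega_inj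
      (hWsq _ (hfixed hg _ (hCE _ (F.act_sq hg)) (by group)))
    obtain ⟨n, hn, hn0, hnfix⟩ : ∃ n : M2, n * n = 0 ∧ n ≠ 0 ∧ F.Fix n := by
      by_cases hU : ∃ k U, F.Lin k U ∧ U ≠ 1
      · obtain ⟨k, U, hk, hU⟩ := hU
        obtain ⟨-, t2, t3⟩ := transvection U (F.lin_sq h2 hk) hU
        exact ⟨U + 1, t2, t3, F.fix_of_lin h2 hk hU⟩
      · push Not at hU
        obtain ⟨n, -, -, hn, -, -, hn0, -⟩ := three_nils
        exact ⟨n, hn, hn0, fun k U hk => by rw [hU k U hk, one_mul, mul_one]⟩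
    obtain ⟨h, hh⟩ := hfull n
    set c := x⁻¹ * (h * x * h⁻¹) with hcdef
    have hxi : x⁻¹ = x := inv_eq_of_mul_eq_one_left hx2
    have hcC : c ∈ T.C := by
      refine F.mem_C_of_act ?_
      have := F.act_mul (F.act_inv hx) (F.act_mul (F.act_mul hh hx) (F.act_inv hh))
      rwa [add_comm n omega, add_assoc omega, add_self, add_zero, add_self] at this
    have hinvd : x * c * x⁻¹ = c⁻¹ := by
      calc x * c * x⁻¹ = h * x * h⁻¹ * x⁻¹ := by rw [hcdef]; group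
        _ = h * x⁻¹ * h⁻¹ * x := by rw [hxi]
        _ = _ := by rw [hcdef]; group
    have hcW := F.inverted h2 hx omega_inj hcC hinvd
    obtain ⟨w, hw⟩ := F.surj c hcW
    change F.ι w = c at hw
    have hch : Commute h c := hw ▸ F.mem_G1.1 (F.act_mem_G1 hh) w
    have e1 : x⁻¹ * h * x = c * h := by rw [hcdef]; group
    have e2 : x * (h * h) * x⁻¹ = h * h := by
      calc x * (h * h) * x⁻¹ = x⁻¹ * (h * h) * x := by rw [hxi]
        _ = (x⁻¹ * h * x) * (x⁻¹ * h * x) := by group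
        _ = c * h * (c * h) := by rw [e1]
        _ = c ^ 2 * (h * h) := by rw [Commute.mul_mul_mul_comm hch, pow_two]
        _ = h * h := by rw [hcW.2, one_mul]
    exact F.no_fix h2 hA hh (nil_inj n hn) hn0 hnfix
      (hWsq _ (hfixed hx _ (hCE _ (F.act_sq hh)) e2))

include h2 hA in
theorem index_two_false (K : Set M2) (hK : ∀ m ∈ K, ∃ g, F.Act g m ∧ g * g ∈ sq T.C)
    (hKadd : ∀ x ∈ K, ∀ y ∈ K, x + y ∈ K)
    (hKtwo : ∀ x, x ∉ K → ∀ y, y ∉ K → x + y ∈ K) : False := by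
  have hW := T.card_W_le hA
  have hone : omega ∉ K → omega * omega ∉ K → (1 : M2) ∈ K := fun a b =>
    omega_sq ▸ hKtwo _ a _ b
  by_cases hC : ∃ c ∈ T.C, c ^ 4 ≠ 1
  · obtain ⟨c, p, hc, h8, hp, hp0, -⟩ := F.exists_eight h2 hW hC
    have hkill : ∀ m ∈ K, (m + m * m) *ᵥ p = 0 := fun m hm => by
      obtain ⟨g, hg, hgs⟩ := hK m hm
      exact F.kill h2 hc h8 hp hg hgs
    obtain ⟨n, n', n'', hn, hn', hn'', hn0, hnp, hn'p, hn''p, hsum⟩ := nils_at p hp0
    have a1 : n' ∉ K := fun h => hn'p (by simpa [hn'] using hkill n' h)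
    have a2 : n'' ∉ K := fun h => hn''p (by simpa [hn''] using hkill n'' h)
    have a3 : (1 : M2) + n ∈ K := hsum ▸ hKtwo _ a1 _ a2
    have a4 : (1 : M2) ∈ K := hone (fun h => hp0 ((quad_omega p).1 ▸ hkill _ h))
      (fun h => hp0 ((quad_omega p).2 ▸ hkill _ h))
    have a5 : n ∈ K := by
      have := hKadd _ a4 _ a3
      rwa [← add_assoc, add_self, zero_add] at this
    obtain ⟨g, hg, hgs⟩ := hK n a5
    refine F.no_fix h2 hA hg (nil_inj n hn) hn0 (fun k U hk => ?_) hgs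
    have h8' : (k * c * k⁻¹) ^ 8 = 1 := by rw [conj_pow, h8, mul_one, mul_inv_cancel]
    have hp' : F.ι (U *ᵥ p) = (k * c * k⁻¹) ^ 4 := by rw [conj_pow, ← hp, hk p]
    have h1 := F.kill h2 (T.C_normal.conj_mem c hc k) h8' hp' hg hgs
    rw [hn, add_zero] at h1
    have hUp0 : U *ᵥ p ≠ 0 := fun h => hp0 (F.inj p (by
      have := hk p
      rw [h, ι_zero, conj_eq_one_iff] at this
      exact this))
    exact fixed_nil U n p (F.lin_sq h2 hk) hn hn0 hp0
      (nil_line n _ _ hn hn0 hUp0 hp0 h1 hnp) hnp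
  · have key : ∀ m ∈ K, (∀ v : V2, (1 + m) *ᵥ v = 0 → v = 0) → m ≠ 0 → F.Fix m → False :=
      fun m hm hinj h0 hf => by
        obtain ⟨g, hg, hgs⟩ := hK m hm
        exact F.no_fix h2 hA hg hinj h0 hf hgs
    by_cases hU : ∃ k U, F.Lin k U ∧ U ≠ 1
    · obtain ⟨k, U, hk, hU⟩ := hU
      have hUU := F.lin_sq h2 hk
      obtain ⟨-, t2, t3⟩ := transvection U hUU hU
      have hn : U + 1 ∉ K := fun h =>
        key _ h (nil_inj _ t2) t3 (F.fix_of_lin h2 hk hU)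
      have hinv : ∀ m ∈ K, U * m * U ∈ K := by
        intro m hm
        by_contra hnot
        obtain ⟨g, hg, -⟩ := hK m hm
        refine F.full_false h2 hA fun x => ?_
        by_cases hx : x ∈ K
        · obtain ⟨y, hy, -⟩ := hK x hx
          exact ⟨y, hy⟩
        · obtain ⟨y, hy, -⟩ := hK _ (hKtwo _ hx _ hnot)
          refine ⟨y * (k * g * k⁻¹), ?_⟩
          have := F.act_mul hy (F.act_conj' h2 hg hk)
          rwa [add_assoc, add_self, add_zero] at this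
      have hpair : ∀ a : M2, a + U * a * U ∈ K := by
        intro a
        by_cases ha : a ∈ K
        · exact hKadd _ ha _ (hinv a ha)
        · refine hKtwo _ ha _ fun h => ha ?_
          have := hinv _ h
          rwa [show U * (U * a * U) * U = (U * U) * a * (U * U) by simp only [mul_assoc], hUU, one_mul,
            mul_one] at this
      obtain ⟨n', e1, e2⟩ := swap_sums U hUU hU
      exact hn (hKadd _ (e1 ▸ hpair n') _ (e2 ▸ hpair omega))
    · push Not at hU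
      have hfix : ∀ m, F.Fix m := fun m k U hk => by rw [hU k U hk, one_mul, mul_one]
      have a1 : omega ∉ K := fun h => key _ h omega_inj omega_ne.1 (hfix _)
      have a2 : omega * omega ∉ K := fun h => key _ h omega_sq_inj omega_ne.2.1 (hfix _)
      obtain ⟨n₁, n₂, n₃, h1, h2', h3, h1', h2'', h3', hsum⟩ := three_nils
      have b : ∀ n : M2, n * n = 0 → n ≠ 0 → n ∉ K := fun n hn hn0 h =>
        key _ h (nil_inj n hn) hn0 (hfix _)
      refine b n₃ h3 h3' ?_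
      have h := hKadd _ (hKtwo _ (b _ h1 h1') _ (b _ h2' h2'')) _ (hone a1 a2)
      rwa [← hsum, ← add_assoc, add_self, zero_add] at h

end Frame

end Cfsg.Agent.Solv.FourGen
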