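import Cfsg.Agent.Lib.Solv.FourGen.Kill

/-!
In a `2`-group without a normal elementary abelian subgroup of order eight, the squares of each
subgroup generate a subgroup of index at most sixteen in it.
-/

set_option autoImplicit false
set_option linter.style.haveILetI false

open Matrix

namespace Cfsg.Agent.Solv.FourGen

open Mat

variable {G : Type*} [Group G] [Finite G] (h2 : IsPGroup 2 G) (hA : NoEight G) (T : Data G)

include h2 in
theorem index_two_pow {H : Subgroup G} (S : Subgroup H) : ∃ n : ℕ, S.index = 2 ^ n :=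
  haveI := Fact.mk Nat.prime_two
  (h2.to_subgroup H).index S

include h2 hA in
/-- The part of the index inside the centralizer. -/
theorem first_le (H : Subgroup G) :
    (sq H).relIndex (H ⊓ T.C) ≤ 4 ∧ ((sq H).relIndex (H ⊓ T.C) ≤ 2 ∨ sq H ⊓ T.C ≤ sq T.C) := by
  have hM : sq (H ⊓ T.C) ≤ sq H ⊓ (H ⊓ T.C) := le_inf (sq_mono inf_le_left) (sq_le _)
  have h := Subgroup.relIndex_mul_relIndex (sq (H ⊓ T.C)) (sq H ⊓ (H ⊓ T.C)) (H ⊓ T.C) hM
    inf_le_right
  rw [Subgroup.inf_relIndex_right] at h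
  have h4 : (sq (H ⊓ T.C)).relIndex (H ⊓ T.C) ≤ 4 :=
    (T.relIndex_sq_le h2 inf_le_right).trans (T.card_W_le hA)
  have h0 : (sq (H ⊓ T.C)).relIndex (sq H ⊓ (H ⊓ T.C)) ≠ 0 := Subgroup.index_ne_zero_of_finite
  by_cases h1 : (sq (H ⊓ T.C)).relIndex (sq H ⊓ (H ⊓ T.C)) = 1
  · refine ⟨by rw [h1, one_mul] at h; omega, Or.inr ?_⟩
    refine fun x hx => sq_mono inf_le_right (Subgroup.relIndex_eq_one.1 h1 ?_)
    exact ⟨hx.1, sq_le H hx.1, hx.2⟩
  · have := Nat.mul_le_mul_right ((sq H).relIndex (H ⊓ T.C))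
      (show 2 ≤ (sq (H ⊓ T.C)).relIndex (sq H ⊓ (H ⊓ T.C)) by omega)
    exact ⟨by omega, Or.inl (by omega)⟩

/-- Conjugation on the elements different from one of `E`. -/
def permE (H : Subgroup G) : H →* Equiv.Perm {e : G // e ∈ T.E ∧ e ≠ 1} where
  toFun x :=
    { toFun := fun e => ⟨x * e.1 * (x : G)⁻¹, T.normal.conj_mem _ e.2.1 _,
        fun h => e.2.2 (conj_eq_one_iff.1 h)⟩
      invFun := fun e => ⟨(x : G)⁻¹ * e.1 * x, by
        simpa using T.normal.conj_mem _ e.2.1 (x : G)⁻¹, fun h => e.2.2 (by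
        rwa [show (x : G)⁻¹ * e.1 * x = (x : G)⁻¹ * e.1 * ((x : G)⁻¹)⁻¹ by rw [inv_inv],
          conj_eq_one_iff] at h)⟩
      left_inv := fun e => Subtype.ext (by simp [mul_assoc])
      right_inv := fun e => Subtype.ext (by simp [mul_assoc]) }
  map_one' := Equiv.ext fun e => Subtype.ext (by simp)
  map_mul' x y := Equiv.ext fun e => Subtype.ext (by simp [mul_assoc])

omit [Finite G] in
theorem ker_permE_le (H : Subgroup G) : (permE T H).ker ≤ T.C.subgroupOf H := by
  intro x hx
  refine Subgroup.mem_subgroupOf.2 (T.mem_C.2 fun e he => ?_)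
  by_cases h1 : e = 1
  · rw [h1]
    exact Commute.one_right _
  · have := congrArg (fun σ => (σ ⟨e, he, h1⟩ : {e : G // e ∈ T.E ∧ e ≠ 1}).1)
      (MonoidHom.mem_ker.1 hx)
    exact mul_inv_eq_iff_eq_mul.1 this

include h2 hA in
/-- The case of a small `E`. -/
theorem index_small_le (hE : Nat.card T.E ≠ 16) (H : Subgroup G) :
    ((sq H).subgroupOf H ⊔ T.C.subgroupOf H).index ≤ 4 := by
  haveI := Fact.mk Nat.prime_two
  set D := T.C.subgroupOf H with hD
  set S := (sq H).subgroupOf H with hS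
  obtain ⟨n, hn⟩ := index_two_pow h2 (S ⊔ D)
  have hpow : ∀ n, 2 ^ n < 8 → 2 ^ n ≤ 4 := fun n hn => by
    have : n < 3 := (Nat.pow_lt_pow_iff_right (by norm_num)).1 (show 2 ^ n < 2 ^ 3 from hn)
    exact Nat.pow_le_pow_right (by norm_num) (show n ≤ 2 by omega)
  have hdvd : (S ⊔ D).index ≤ D.index :=
    Nat.le_of_dvd (Nat.pos_of_ne_zero Subgroup.index_ne_zero_of_finite)
      (Subgroup.index_dvd_of_le le_sup_right)
  obtain ⟨j, hj⟩ := IsPGroup.iff_card.1 (h2.to_subgroup T.E)
  have hle16 := T.card_E_le (T.card_W_le hA)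
  have hj3 : j ≤ 3 := by
    rw [hj] at hE hle16
    have : j ≤ 4 := (Nat.pow_le_pow_iff_right (by norm_num)).1 (show 2 ^ j ≤ 2 ^ 4 from hle16)
    have : j ≠ 4 := fun h => hE (by rw [h]; rfl)
    omega
  rcases (show j ≤ 2 ∨ j = 3 by omega) with hj2 | rfl
  · have hE4 : Nat.card T.E ≤ 4 := hj ▸ Nat.pow_le_pow_right (by norm_num) hj2
    have hset : Nat.card {e : G // e ∈ T.E ∧ e ≠ 1} ≤ 3 := by
      have h1 : Nat.card {e : G // e ∈ T.E ∧ e ≠ 1} = ((T.E : Set G) \ {1}).ncard :=
        Nat.card_coe_set_eq ((T.E : Set G) \ {1})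
      rw [h1, Set.ncard_diff_singleton_of_mem (one_mem _), ← Nat.card_coe_set_eq]
      change Nat.card T.E - 1 ≤ 3
      omega
    have h6 : Nat.card (Equiv.Perm {e : G // e ∈ T.E ∧ e ≠ 1}) ≤ 6 := by
      rw [Nat.card_perm]
      exact (Nat.factorial_le hset).trans (le_of_eq rfl)
    have h7 : D.index ≤ 6 := by
      refine ((Nat.le_of_dvd (Nat.pos_of_ne_zero Subgroup.index_ne_zero_of_finite)
        (Subgroup.index_dvd_of_le (ker_permE_le T H))).trans ?_)
      rw [Subgroup.index_ker]
      exact (Subgroup.card_le_card_group _).trans h6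
    rw [hn]
    exact hpow n (by omega)
  · let f : T.E →* T.W :=
      { toFun := fun e => ⟨e.1 ^ 2, pow_mem e.2 2, by rw [← pow_mul]; exact T.exp _ e.2⟩
        map_one' := Subtype.ext (one_pow 2)
        map_mul' := fun a b => Subtype.ext ((T.comm _ a.2 _ b.2).mul_pow 2) }
    have h1 := f.ker.card_mul_index
    rw [Subgroup.index_ker, hj] at h1
    have hW4 := T.card_W_le hA
    have h5 : Nat.card f.ker = Nat.card T.W := by
      refine Nat.card_congr ⟨fun a => ⟨a.1.1, a.1.2,
        congrArg Subtype.val (MonoidHom.mem_ker.1 a.2)⟩,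
        fun w => ⟨⟨w.1, w.2.1⟩, MonoidHom.mem_ker.2 (Subtype.ext w.2.2)⟩, fun a => rfl, fun a => rfl⟩
    have h3 : Nat.card f.range ≤ Nat.card T.W := Subgroup.card_le_card_group _
    rw [h5] at h1
    obtain ⟨hW, hR⟩ : Nat.card T.W = 4 ∧ Nat.card f.range = 2 := by
      generalize Nat.card T.W = w at *
      generalize Nat.card f.range = r at *
      norm_num at h1
      interval_cases w <;> omega
    obtain ⟨⟨⟨z, hzW⟩, hzR⟩, hz1, hzu⟩ := (Nat.card_eq_two_iff' (1 : f.range)).1 hR
    replace hz1 : z ≠ 1 := fun h => hz1 (Subtype.ext (Subtype.ext h))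
    have hsq : ∀ e ∈ T.E, e ∉ T.W → e ^ 2 = z := fun e he heW => by
      have h := hzu ⟨f ⟨e, he⟩, MonoidHom.mem_range.2 ⟨_, rfl⟩⟩ fun h =>
        heW ⟨he, congrArg (fun q => (q : T.W).1) (congrArg Subtype.val h)⟩
      exact congrArg (fun q => (q : T.W).1) (congrArg Subtype.val h)
    have hWE : (T.W : Set G) ⊆ T.E := fun w hw => hw.1
    have hnE : ((T.E : Set G) \ T.W).ncard = 4 := by
      rw [Set.ncard_diff hWE, ← Nat.card_coe_set_eq, ← Nat.card_coe_set_eq]
      change Nat.card T.E - Nat.card T.W = 4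
      omega
    have hnW : ((T.W : Set G) \ {1, z}).ncard = 2 := by
      rw [Set.ncard_diff (by rintro x (rfl | rfl); exacts [one_mem _, hzW]), Set.ncard_pair hz1.symm,
        ← Nat.card_coe_set_eq]
      change Nat.card T.W - 2 = 2
      omega
    obtain ⟨a, haE, haW⟩ := Set.nonempty_of_ncard_ne_zero (by omega :
      ((T.E : Set G) \ T.W).ncard ≠ 0)
    obtain ⟨b, hbW, hb⟩ := Set.nonempty_of_ncard_ne_zero (by omega :
      ((T.W : Set G) \ {1, z}).ncard ≠ 0)
    have haz : a ^ 2 = z := hsq a haE haW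
    have hfix : ∀ x : H, (x : G) * z * (x : G)⁻¹ = z := fun x => by
      rw [← haz, ← conj_pow, haz]
      refine hsq _ (T.normal.conj_mem _ haE x) fun h => haW ?_
      have := T.W_normal.conj_mem _ h (x : G)⁻¹
      simpa [mul_assoc] using this
    have hgen : ∀ x : H, Commute (x : G) a → Commute (x : G) b → x ∈ D := by
      intro x hxa hxb
      refine Subgroup.mem_subgroupOf.2 (T.mem_C.2 ?_)
      set K := T.E ⊓ Subgroup.centralizer {(x : G)} with hK
      have haK : a ∈ K := ⟨haE, Subgroup.mem_centralizer_singleton_iff.2 hxa.symm.eq⟩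
      have hbK : b ∈ K := ⟨hbW.1, Subgroup.mem_centralizer_singleton_iff.2 hxb.symm.eq⟩
      have ho : orderOf a = 4 := orderOf_eq_prime_pow (p := 2) (n := 1)
        (by rw [pow_one, haz]; exact hz1) (T.exp a haE)
      have hlt : Subgroup.zpowers a < K := by
        refine lt_of_le_of_ne (Subgroup.zpowers_le.2 haK) fun h => ?_
        rw [← h] at hbK
        obtain ⟨m, hm⟩ := (isOfFinOrder_of_finite a).mem_powers_iff_mem_zpowers.2 hbK
        dsimp only at hm
        have hb2 : b ^ 2 = 1 := hbW.2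
        rw [← hm, ← pow_mod_orderOf a m, ho] at hb hb2
        have hlt4 : m % 4 < 4 := Nat.mod_lt _ (by norm_num)
        generalize m % 4 = r at hb hb2 hlt4
        interval_cases r
        · exact hb (Or.inl (pow_zero a))
        · rw [← pow_mul, one_mul, haz] at hb2
          exact hz1 hb2
        · exact hb (Or.inr haz)
        · rw [← pow_mul, show 3 * 2 = 4 + 2 from rfl, pow_add, T.exp a haE, one_mul, haz] at hb2
          exact hz1 hb2
      have hKE : K = T.E := by
        refine Subgroup.eq_of_le_of_card_ge inf_le_left ?_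
        have h4 : Nat.card (Subgroup.zpowers a) = 4 := by rw [Nat.card_zpowers, ho]
        have h8 : 4 < Nat.card K := h4 ▸ (Subgroup.card_le_of_le hlt.le).lt_of_ne
          fun he => hlt.ne (Subgroup.eq_of_le_of_card_ge hlt.le he.ge)
        obtain ⟨i, hi⟩ := IsPGroup.iff_card.1 (h2.to_subgroup K)
        rw [hi] at h8
        rw [hj, hi]
        have : 2 < i := (Nat.pow_lt_pow_iff_right (by norm_num)).1 (show 2 ^ 2 < 2 ^ i from h8)
        exact Nat.pow_le_pow_right (by norm_num) this
      intro e he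
      exact ((Subgroup.mem_centralizer_singleton_iff.1 ((hKE.symm ▸ he : e ∈ K).2)) : e * (x : G) = _).symm
    let tgt : Set (G × G) := ((T.E : Set G) \ T.W) ×ˢ ((T.W : Set G) \ {1, z})
    have htgt : Nat.card tgt = 8 := by
      rw [Nat.card_coe_set_eq, Set.ncard_prod, hnE, hnW]
    have himg : ∀ x : H, ((x : G) * a * (x : G)⁻¹, (x : G) * b * (x : G)⁻¹) ∈ tgt := fun x => by
      refine ⟨⟨T.normal.conj_mem _ haE x, fun h => haW ?_⟩, T.W_normal.conj_mem _ hbW x, fun h => hb ?_⟩
      · have := T.W_normal.conj_mem _ h (x : G)⁻¹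
        simpa [mul_assoc] using this
      · rcases h with h | h
        · exact Or.inl (conj_eq_one_iff.1 h)
        · exact Or.inr (mul_left_cancel (mul_right_cancel (h.trans (hfix x).symm)))
    let Φ : H ⧸ D → tgt := fun q => ⟨_, himg q.out⟩
    have hΦ : Function.Injective Φ := by
      intro p q hpq
      have h' := Prod.ext_iff.1 (congrArg Subtype.val hpq)
      rw [← QuotientGroup.out_eq' p, ← QuotientGroup.out_eq' q, QuotientGroup.eq]
      have key : ∀ e : G, (p.out : G) * e * (p.out : G)⁻¹ = (q.out : G) * e * (q.out : G)⁻¹ →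
          Commute ((p.out⁻¹ * q.out : H) : G) e := fun e he => by
        rw [Subgroup.coe_mul, InvMemClass.coe_inv, Commute, SemiconjBy, ← mul_inv_eq_iff_eq_mul]
        calc (p.out : G)⁻¹ * q.out * e * ((p.out : G)⁻¹ * q.out)⁻¹
            = (p.out : G)⁻¹ * ((q.out : G) * e * (q.out : G)⁻¹) * p.out := by group
          _ = (p.out : G)⁻¹ * ((p.out : G) * e * (p.out : G)⁻¹) * p.out := by rw [he]
          _ = e := by group
      exact hgen _ (key a h'.1) (key b h'.2)
    have h8 : D.index ≤ 8 := htgt ▸ Nat.card_le_card_of_injective Φ hΦ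
    by_contra hgt
    have h8' : (S ⊔ D).index = 8 := by
      by_contra hne
      have := hpow n (by omega)
      omega
    have hSD : S ≤ D := by
      have hDi : D.relIndex (S ⊔ D) = 1 := by
        have h := Subgroup.relIndex_mul_index (le_sup_right : D ≤ S ⊔ D)
        rw [h8', show D.index = 8 by omega] at h
        omega
      exact le_sup_left.trans (Subgroup.relIndex_eq_one.1 hDi)
    have hbij := hΦ.bijective_of_nat_card_le (htgt.trans_le (by change 8 ≤ D.index; omega))
    have hreal : ∀ t ∈ tgt, ∃ x : H, ((x : G) * a * (x : G)⁻¹, (x : G) * b * (x : G)⁻¹) = t :=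
      fun t ht => by
        obtain ⟨q, hq⟩ := hbij.2 ⟨t, ht⟩
        exact ⟨q.out, congrArg Subtype.val hq⟩
    obtain ⟨g, hg⟩ := hreal (a * b, b) ⟨⟨mul_mem haE hbW.1,
      fun h => haW ((mul_mem_cancel_right hbW).1 h)⟩, hbW, hb⟩
    obtain ⟨k, hk⟩ := hreal (a, b * z) ⟨⟨haE, haW⟩, mul_mem hbW hzW, fun h => by
      rcases h with h | h
      · exact hb (Or.inr (mul_right_cancel (h.trans (by rw [← pow_two]; exact hzW.2.symm))))
      · exact hb (Or.inl (mul_eq_right.1 h))⟩
    obtain ⟨hga, hgb⟩ := Prod.ext_iff.1 hg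
    obtain ⟨hka, hkb⟩ := Prod.ext_iff.1 hk
    dsimp only at hga hgb hka hkb
    have hc := T.mem_C.1 (Subgroup.mem_subgroupOf.1 (hSD (Subgroup.mem_subgroupOf.2
      (comm_mem_sq g.2 k.2 : _ ∈ sq H) : g * k * g⁻¹ * k⁻¹ ∈ S))) (a * b * (b * z) * b⁻¹ * 1)
      (by rw [mul_one]; exact mul_mem (mul_mem (mul_mem haE hbW.1) (mul_mem hbW hzW).1) (inv_mem hbW.1))
    simp only [Subgroup.coe_mul, InvMemClass.coe_inv, mul_one] at hc
    have hbb : b * b = 1 := by rw [← pow_two]; exact hbW.2
    have hval : a * b * (b * z) * b⁻¹ = a * b * z := by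
      rw [inv_eq_of_mul_eq_one_left hbb, mul_assoc _ (b * z), mul_assoc b z b,
        (T.comm z hzW.1 b hbW.1).eq, ← mul_assoc b b z, hbb, one_mul]
    rw [hval] at hc
    have e1 : (g : G) * k * a * ((g : G) * k)⁻¹ = a * b := by
      calc _ = (g : G) * ((k : G) * a * (k : G)⁻¹) * (g : G)⁻¹ := by group
        _ = _ := by rw [hka, hga]
    have e2 : (k : G) * g * a * ((k : G) * g)⁻¹ = a * b * z := by
      calc _ = (k : G) * ((g : G) * a * (g : G)⁻¹) * (k : G)⁻¹ := by group
        _ = ((k : G) * a * (k : G)⁻¹) * ((k : G) * b * (k : G)⁻¹) := by rw [hga]; group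
        _ = _ := by rw [hka, hkb, mul_assoc]
    have e3 : a * b = a * b * z := by
      calc a * b = ((g : G) * k * (g : G)⁻¹ * (k : G)⁻¹) * ((k : G) * g * a * ((k : G) * g)⁻¹) *
            ((g : G) * k * (g : G)⁻¹ * (k : G)⁻¹)⁻¹ := by rw [← e1]; group
        _ = _ := by rw [e2, hc.eq, mul_inv_cancel_right]
    exact hz1 (left_eq_mul.1 e3)

/-- The map `m ↦ U m U + m`. -/
def conjAdd (U : M2) : Multiplicative M2 →* Multiplicative M2 :=
  MonoidHom.mk' (fun m => Multiplicative.ofAdd (U * m.toAdd * U + m.toAdd)) fun a b => by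
    rw [toAdd_mul, ← ofAdd_add, mul_add, add_mul, add_add_add_comm]

set_option maxHeartbeats 400000 in
include h2 hA in
/-- The squares generate a subgroup of index at most sixteen. -/
theorem relIndex_sq_sixteen (H : Subgroup G) : (sq H).relIndex H ≤ 16 := by
  haveI := Fact.mk Nat.prime_two
  obtain ⟨T⟩ := exists_data h2
  have hW := T.card_W_le hA
  obtain ⟨hfirst, hdich⟩ := first_le h2 hA T H
  set S := (sq H).subgroupOf H with hS
  set D := T.C.subgroupOf H with hD
  haveI : S.Normal := ⟨fun x hx g => conj_mem_sq g.2 hx⟩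
  haveI : D.Normal := ⟨fun x hx g => T.C_normal.conj_mem _ hx _⟩
  have hsplit : S.index = (sq H).relIndex (H ⊓ T.C) * (S ⊔ D).index := by
    rw [← Subgroup.relIndex_mul_index (le_sup_left : S ≤ S ⊔ D), Subgroup.relIndex_sup_left, hD,
      ← Subgroup.inf_subgroupOf_left, hS, Subgroup.relIndex_subgroupOf inf_le_left]
  change S.index ≤ 16
  rw [hsplit]
  by_cases hE : Nat.card T.E = 16
  swap
  · exact Nat.mul_le_mul hfirst (index_small_le h2 hA T hE H)
  obtain ⟨F⟩ := exists_frame T hW hE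
  set B := F.G1.subgroupOf H with hB
  obtain ⟨φ, hφ⟩ : ∃ φ : B →* Multiplicative M2, ∀ g : B, F.Act (g.1 : G) (φ g).toAdd :=
    ⟨MonoidHom.mk'
      (fun g => Multiplicative.ofAdd (Classical.choose (F.exists_act (g := (g.1 : G)) g.2)))
      fun g k => F.act_unique (Classical.choose_spec (F.exists_act (g := ((g * k).1 : G)) (g * k).2))
        (F.act_mul (Classical.choose_spec (F.exists_act (g := (g.1 : G)) g.2))
          (Classical.choose_spec (F.exists_act (g := (k.1 : G)) k.2))),
     fun g => Classical.choose_spec (F.exists_act (g := (g.1 : G)) g.2)⟩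
  set N := (S ⊔ D).subgroupOf B with hN
  have hker : φ.ker ≤ N := fun g hg => by
    refine Subgroup.mem_subgroupOf.2 (Subgroup.mem_sup_right (Subgroup.mem_subgroupOf.2
      (F.mem_C_of_act ?_)))
    have := hφ g
    rwa [MonoidHom.mem_ker.1 hg] at this
  have hindex : (S ⊔ D).index ≤ N.index * B.index := by
    have h1 : ((S ⊔ D) ⊓ B).index = N.index * B.index := by
      rw [← Subgroup.relIndex_mul_index (inf_le_right : (S ⊔ D) ⊓ B ≤ B),
        Subgroup.inf_relIndex_right]
      rfl
    rw [← h1]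
    exact Nat.le_of_dvd (Nat.pos_of_ne_zero Subgroup.index_ne_zero_of_finite)
      (Subgroup.index_dvd_of_le inf_le_left)
  have hcard16 : Nat.card (Multiplicative M2) = 16 :=
    (Nat.card_congr Multiplicative.toAdd).trans (by rw [Nat.card_eq_fintype_card]; rfl)
  have hcount : Nat.card (N.map φ) * N.index = Nat.card φ.range := by
    have h1 := (N.map φ).card_mul_index
    rw [Subgroup.index_map, sup_eq_left.2 hker, ← φ.range.card_mul_index, ← mul_assoc] at h1
    exact Nat.eq_of_mul_eq_mul_right (Nat.pos_of_ne_zero Subgroup.index_ne_zero_of_finite) h1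
  have hpos : 0 < Nat.card (N.map φ) := Nat.card_pos
  have hsqC : ∀ g : B, sq H ⊓ T.C ≤ sq T.C → (g.1 : G) * g.1 ∈ sq T.C := fun g h =>
    h ⟨by rw [← pow_two]; exact sq_mem g.1.2, F.act_sq (hφ g)⟩
  by_cases hU : ∃ u ∈ H, ∃ U, F.Lin u U ∧ U ≠ 1
  · obtain ⟨u, hu, U, hUl, hU⟩ := hU
    have hB2 : B.index ≤ 2 := by
      let q : Bool → H ⧸ B := fun b => cond b ↑(1 : H) ↑((⟨u, hu⟩ : H)⁻¹)
      refine (Nat.card_le_card_of_surjective q fun x => ?_).trans
        (by rw [Nat.card_eq_fintype_card (α := Bool), Fintype.card_bool])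
      induction x using QuotientGroup.induction_on with | _ h => ?_
      obtain ⟨V, hV⟩ := F.exists_lin (h : G)
      by_cases hV1 : V = 1
      · exact ⟨true, QuotientGroup.eq.2 (by
          rw [inv_one, one_mul]; exact F.lin_one_iff.1 (hV1 ▸ hV))⟩
      · refine ⟨false, QuotientGroup.eq.2 (Subgroup.mem_subgroupOf.2 ?_)⟩
        rw [inv_inv]
        refine F.lin_one_iff.1 ?_
        have := F.lin_mul hUl hV
        rwa [F.lin_eq h2 hV hUl hV1 hU, F.lin_sq h2 hUl] at this
    have hUU := F.lin_sq h2 hUl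
    obtain ⟨ψ, hψv⟩ : ∃ ψ : φ.range →* Multiplicative M2,
        ∀ m, ψ m = Multiplicative.ofAdd (U * m.1.toAdd * U + m.1.toAdd) :=
      ⟨(conjAdd U).comp φ.range.subtype, fun m => rfl⟩
    have hψ : ψ.range ≤ N.map φ := by
      rintro _ ⟨⟨m, g, rfl⟩, rfl⟩
      rw [hψv]
      have hu' : (⟨u, hu⟩ : H) * g.1 * (⟨u, hu⟩ : H)⁻¹ * g.1⁻¹ ∈ B :=
        B.mul_mem (Subgroup.mem_subgroupOf.2 (F.G1_normal.conj_mem _ g.2 u)) (B.inv_mem g.2)
      refine ⟨⟨_, hu'⟩, Subgroup.mem_subgroupOf.2 (Subgroup.mem_sup_left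
        (Subgroup.mem_subgroupOf.2 ?_)), F.act_unique (hφ _) ?_⟩
      · exact comm_mem_sq hu g.1.2
      · exact F.act_mul (F.act_conj' h2 (hφ g) hUl) (F.act_inv (hφ g))
    have hmid : N.index ≤ Nat.card ψ.ker := by
      have h1 := ψ.ker.card_mul_index
      rw [Subgroup.index_ker, ← hcount] at h1
      refine Nat.le_of_mul_le_mul_left ?_ hpos
      calc Nat.card (N.map φ) * N.index = Nat.card ψ.ker * Nat.card ψ.range := h1.symm
        _ ≤ Nat.card ψ.ker * Nat.card (N.map φ) := Nat.mul_le_mul_left _ (Subgroup.card_le_of_le hψ)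
        _ = _ := mul_comm _ _
    let A : Set M2 := {m | Multiplicative.ofAdd m ∈ φ.range ∧ U * m * U + m = 0}
    have hkA : Nat.card ψ.ker ≤ A.ncard := by
      rw [← Nat.card_coe_set_eq]
      exact Nat.card_le_card_of_injective (fun a => ⟨a.1.1.toAdd, a.1.2,
        congrArg Multiplicative.toAdd ((hψv a.1).symm.trans (MonoidHom.mem_ker.1 a.2))⟩) fun a b h =>
        Subtype.ext (Subtype.ext (Multiplicative.toAdd.injective (congrArg (fun q : A => q.1) h)))
    have hAsub : A ⊆ {0, 1, U + 1, U} := by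
      rintro m ⟨-, h0⟩
      have h1 : U * m * U = m := CharTwo.add_eq_zero.1 h0
      refine transvection_fix U hUU hU m ?_
      calc U * m = U * m * (U * U) := by rw [hUU, mul_one]
        _ = U * m * U * U := (mul_assoc _ _ _).symm
        _ = m * U := by rw [h1]
    have hA4 : A.ncard ≤ 4 := by
      refine (Set.ncard_le_ncard hAsub (Set.toFinite _)).trans ?_
      refine (Set.ncard_insert_le _ _).trans (Nat.succ_le_succ ((Set.ncard_insert_le _ _).trans
        (Nat.succ_le_succ ((Set.ncard_insert_le _ _).trans ?_))))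
      rw [Set.ncard_singleton]
    have hmid4 : N.index ≤ 4 := hmid.trans (hkA.trans hA4)
    have hall := hindex.trans (Nat.mul_le_mul (le_refl N.index) hB2)
    rcases hdich with hd | hd
    · exact (Nat.mul_le_mul hd hall).trans (by omega)
    by_cases hm2 : N.index ≤ 2
    · exact (Nat.mul_le_mul hfirst hall).trans (by omega)
    exfalso
    have hAadd : ∀ a ∈ A, ∀ b ∈ A, a + b ∈ A := by
      rintro a ⟨ha, ha'⟩ b ⟨hb, hb'⟩
      exact ⟨φ.range.mul_mem ha hb, by
        rw [mul_add, add_mul, add_add_add_comm, ha', hb', add_zero]⟩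
    have hn : U + 1 ∈ A := by
      by_contra hn
      by_cases h1 : (1 : M2) ∈ A
      · have hUA : U ∉ A := fun h => hn (hAadd _ h _ h1)
        have : A ⊆ {0, 1} := fun m hm => by
          rcases hAsub hm with h | h | h | h
          exacts [Or.inl h, Or.inr h, absurd (h ▸ hm) hn, absurd (h ▸ hm) hUA]
        have := (Set.ncard_le_ncard this (Set.toFinite _)).trans
          ((Set.ncard_insert_le _ _).trans (by rw [Set.ncard_singleton]))
        omega
      · have : A ⊆ {0, U} := fun m hm => by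
          rcases hAsub hm with h | h | h | h
          exacts [Or.inl h, absurd (h ▸ hm) h1, absurd (h ▸ hm) hn, Or.inr h]
        have := (Set.ncard_le_ncard this (Set.toFinite _)).trans
          ((Set.ncard_insert_le _ _).trans (by rw [Set.ncard_singleton]))
        omega
    obtain ⟨⟨g, hg⟩, -⟩ := hn
    obtain ⟨-, t2, t3⟩ := transvection U hUU hU
    have hga := hφ g
    rw [hg, toAdd_ofAdd] at hga
    exact F.no_fix h2 hA hga (nil_inj _ t2) t3 (F.fix_of_lin h2 hUl hU) (hsqC g hd)
  · push Not at hU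
    have hBtop : B = ⊤ := (Subgroup.eq_top_iff' B).2 fun h => by
      obtain ⟨V, hV⟩ := F.exists_lin (h : G)
      exact F.lin_one_iff.1 (hU h h.2 V hV ▸ hV)
    rw [show B.index = 1 by rw [hBtop, Subgroup.index_top], mul_one] at hindex
    have hall : (S ⊔ D).index ≤ Nat.card φ.range :=
      hindex.trans (hcount ▸ Nat.le_mul_of_pos_left _ hpos)
    have h16 := φ.range.card_mul_index
    rw [hcard16] at h16
    by_cases hr4 : Nat.card φ.range ≤ 4
    · exact (Nat.mul_le_mul hfirst (hall.trans hr4)).trans le_rfl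
    have hidx : φ.range.index = 1 ∨ φ.range.index = 2 := by
      generalize φ.range.index = i at h16
      generalize Nat.card φ.range = r at h16 hr4
      have : i ≤ 3 := by
        by_contra hi
        have := Nat.mul_le_mul (show 5 ≤ r by omega) (show 4 ≤ i by omega)
        omega
      interval_cases i <;> omega
    rcases hidx with hi | hi
    · exfalso
      refine F.full_false h2 hA fun m => ?_
      obtain ⟨g, hg⟩ : Multiplicative.ofAdd m ∈ φ.range := by
        rw [Subgroup.index_eq_one.1 hi]; exact Subgroup.mem_top _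
      have := hφ g
      rw [hg, toAdd_ofAdd] at this
      exact ⟨_, this⟩
    · have hr8 : Nat.card φ.range = 8 := by rw [hi] at h16; omega
      rcases hdich with hd | hd
      · exact (Nat.mul_le_mul hd (hall.trans hr8.le)).trans le_rfl
      exfalso
      refine F.index_two_false h2 hA {m | Multiplicative.ofAdd m ∈ φ.range} ?_ ?_ ?_
      · rintro m ⟨g, hg⟩
        have hga := hφ g
        rw [hg, toAdd_ofAdd] at hga
        exact ⟨_, hga, hsqC g hd⟩
      · intro x hx y hy
        exact φ.range.mul_mem hx hy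
      · intro x hx y hy
        exact (Subgroup.mul_mem_iff_of_index_two hi).2 (iff_of_false hx hy)

include h2 hA in
/-- Elementary abelian sections have order at most sixteen. -/
theorem section_le {H : Subgroup G} (N : Subgroup H) [N.Normal] (A : Subgroup (H ⧸ N))
    (hexp : ∀ a ∈ A, a ^ 2 = 1) : Nat.card A ≤ 16 := by
  set K := (A.comap (QuotientGroup.mk' N)).map H.subtype with hK
  have hKH : K ≤ H := Subgroup.map_subtype_le _
  let f : K →* H ⧸ N := (QuotientGroup.mk' N).comp (Subgroup.inclusion hKH)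
  have hmem : ∀ x : K, f x ∈ A := by
    rintro ⟨_, y, hy, rfl⟩
    exact hy
  have hrange : A ≤ f.range := by
    intro a ha
    obtain ⟨y, rfl⟩ := QuotientGroup.mk'_surjective N a
    exact ⟨⟨y.1, y, ha, rfl⟩, rfl⟩
  have hle : (sq K).subgroupOf K ≤ f.ker := by
    intro x hx
    have h : sq K ≤ f.ker.map K.subtype := by
      rw [sq, Subgroup.closure_le]
      rintro _ ⟨t, ht, rfl⟩
      exact ⟨⟨t, ht⟩ ^ 2, MonoidHom.mem_ker.2 (by rw [map_pow]; exact hexp _ (hmem _)), rfl⟩
    obtain ⟨y, hy, hyx⟩ := h (Subgroup.mem_subgroupOf.1 hx)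
    rwa [Subtype.ext hyx.symm]
  calc Nat.card A ≤ Nat.card f.range := Subgroup.card_le_of_le hrange
    _ = f.ker.index := (Subgroup.index_ker f).symm
    _ ≤ ((sq K).subgroupOf K).index :=
      Nat.le_of_dvd (Nat.pos_of_ne_zero Subgroup.index_ne_zero_of_finite)
        (Subgroup.index_dvd_of_le hle)
    _ ≤ 16 := relIndex_sq_sixteen h2 hA K

end Cfsg.Agent.Solv.FourGen
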