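import Cfsg.Agent.Lib.Solv.FourGen.Central

/-!
A normal abelian subgroup of exponent dividing four of a `2`-group, maximal with these properties,
contains every element of order at most four centralizing it. If the group has no normal elementary
abelian subgroup of order eight, this subgroup has order at most sixteen.
-/

set_option autoImplicit false
set_option linter.style.haveILetI false

open scoped commutatorElement

namespace Cfsg.Agent.Solv.FourGen

variable {G : Type*} [Group G]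

/-- A normal abelian subgroup of exponent dividing four containing the elements of order at most
four of its centralizer. -/
structure Data (G : Type*) [Group G] where
  E : Subgroup G
  normal : E.Normal
  comm : ∀ a ∈ E, ∀ b ∈ E, Commute a b
  exp : ∀ a ∈ E, a ^ 4 = 1
  absorb : ∀ x : G, (∀ e ∈ E, Commute x e) → x ^ 4 = 1 → x ∈ E

theorem exists_data [Finite G] (h2 : IsPGroup 2 G) : Nonempty (Data G) := by
  obtain ⟨E, ⟨hEn, hEc, hEe⟩, hmax⟩ := Set.Finite.exists_maximalFor (id : Subgroup G → Subgroup G)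
    {E | E.Normal ∧ (∀ a ∈ E, ∀ b ∈ E, Commute a b) ∧ ∀ a ∈ E, a ^ 4 = 1} (Set.toFinite _)
    ⟨⊥, inferInstance, fun a ha b hb => by
      rw [Subgroup.mem_bot] at ha; subst ha; exact Commute.one_left b, fun a ha => by
      rw [Subgroup.mem_bot] at ha; subst ha; exact one_pow 4⟩
  haveI := hEn
  refine ⟨⟨E, hEn, hEc, hEe, ?_⟩⟩
  let C := Subgroup.centralizer (E : Set G)
  have hCmem : ∀ {x : G}, x ∈ C ↔ ∀ e ∈ E, Commute x e := fun {x} =>
    Subgroup.mem_centralizer_iff.trans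
      ⟨fun h e he => (h e he).symm, fun h e he => (h e he).eq.symm⟩
  haveI : C.Normal := Subgroup.normal_centralizer
  by_contra hcon
  push Not at hcon
  obtain ⟨x₀, hx₀c, hx₀4, hx₀E⟩ := hcon
  let S : Set G := {x | x ∈ C ∧ x ∉ E ∧ x ^ 4 = 1 ∧ x ^ 2 ∈ E}
  have hsub : ∀ y, y ∈ C → y ^ 4 = 1 → y ∉ E → ∃ z ∈ S, z ∈ Subgroup.zpowers y := by
    intro y hy hy4 hyE
    by_cases hy2 : y ^ 2 ∈ E
    · exact ⟨y, ⟨hy, hyE, hy4, hy2⟩, Subgroup.mem_zpowers y⟩
    · refine ⟨y ^ 2, ⟨C.pow_mem hy 2, hy2, ?_, ?_⟩, Subgroup.pow_mem _ (Subgroup.mem_zpowers y) 2⟩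
      · rw [← pow_mul, pow_mul' y 2 4, hy4, one_pow]
      · rw [← pow_mul, hy4]; exact one_mem E
  obtain ⟨z₀, hz₀, -⟩ := hsub x₀ (hCmem.2 hx₀c) hx₀4 hx₀E
  let N : G → Subgroup G := fun x => Subgroup.normalClosure {x} ⊔ E
  obtain ⟨x, ⟨hxC, hxE, hx4, hx2⟩, hmin⟩ :=
    Set.exists_min_image S (fun x => Nat.card (N x)) (Set.toFinite S) ⟨z₀, hz₀⟩
  haveI : (N x).Normal := inferInstanceAs (Subgroup.normalClosure {x} ⊔ E).Normal
  have hxN : x ∈ N x := Subgroup.mem_sup_left (Subgroup.subset_normalClosure rfl)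
  let N₀ : Subgroup G := ⁅N x, (⊤ : Subgroup G)⁆ ⊔ E
  have hN₀le : N₀ ≤ N x := sup_le (Subgroup.commutator_le_left _ _) le_sup_right
  have hN₀lt : N₀ < N x := by
    refine hN₀le.lt_of_ne fun he => ?_
    haveI := Fact.mk Nat.prime_two
    haveI := h2.isNilpotent
    have hk : ∀ k, N x ≤ (⊤ : Subgroup G).lowerCentralSeries k ⊔ E := by
      intro k
      induction k with
      | zero => simp
      | succ k ih =>
        calc N x = N₀ := he.symm
          _ ≤ ⁅(⊤ : Subgroup G).lowerCentralSeries k ⊔ E, (⊤ : Subgroup G)⁆ ⊔ E :=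
            sup_le_sup_right (Subgroup.commutator_mono ih le_rfl) E
          _ ≤ _ := by
            refine sup_le ?_ le_sup_right
            rw [Subgroup.commutator_le]
            intro a ha b _
            haveI : ((⊤ : Subgroup G).lowerCentralSeries k).Normal := inferInstance
            rw [← SetLike.mem_coe, Subgroup.mul_normal] at ha
            obtain ⟨u, hu, e, he', rfl⟩ := ha
            have e1 : ⁅u * e, b⁆ = u * (e * (b * e⁻¹ * b⁻¹)) * u⁻¹ * ⁅u, b⁆ := by
              simp only [commutatorElement_def]; group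
            rw [e1]
            refine mul_mem (Subgroup.mem_sup_right (hEn.conj_mem _
              (mul_mem he' (hEn.conj_mem _ (inv_mem he') b)) u)) (Subgroup.mem_sup_left ?_)
            rw [Subgroup.lowerCentralSeries_succ]
            exact Subgroup.commutator_mem_commutator hu (Subgroup.mem_top b)
    obtain ⟨c, hc⟩ := Subgroup.nilpotent_iff_lowerCentralSeries.1 ‹Group.IsNilpotent G›
    have := hk c hxN
    rw [hc, bot_sup_eq] at this
    exact hxE this
  haveI : N₀.Normal := inferInstanceAs (⁅N x, (⊤ : Subgroup G)⁆ ⊔ E).Normal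
  have hNC : N x ≤ C := sup_le (Subgroup.normalClosure_le_normal (Set.singleton_subset_iff.2 hxC))
    (fun e he => hCmem.2 fun f hf => hEc e he f hf)
  have hsmall : ∀ y ∈ N₀, y ^ 4 = 1 → y ∈ E := by
    intro y hy hy4
    by_contra hyE
    obtain ⟨z, hz, hzy⟩ := hsub y (hNC (hN₀le hy)) hy4 hyE
    have hle : N z ≤ N₀ := sup_le (Subgroup.normalClosure_le_normal
      (Set.singleton_subset_iff.2 (Subgroup.zpowers_le.2 hy hzy))) le_sup_right
    have h1 := hmin z hz
    have h3 : Nat.card N₀ < Nat.card (N x) :=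
      (Subgroup.card_le_of_le hN₀le).lt_of_ne fun he => hN₀lt.ne
        (Subgroup.eq_of_le_of_card_ge hN₀le he.ge)
    exact absurd (h1.trans (Subgroup.card_le_of_le hle)) (not_le.2 h3)
  have hd : ∀ g : G, x⁻¹ * (g * x * g⁻¹) ∈ E := by
    intro g
    set y := g * x * g⁻¹ with hy
    set d := x⁻¹ * y with hd
    have hdN : d ∈ N₀ := by
      refine Subgroup.mem_sup_left ?_
      have : d = ⁅x⁻¹, g⁆ := by rw [hd, hy, commutatorElement_def]; group
      rw [this]
      exact Subgroup.commutator_mem_commutator (inv_mem hxN) (Subgroup.mem_top g)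
    have hyC : y ∈ C := ‹C.Normal›.conj_mem _ hxC g
    have hy2 : y ^ 2 ∈ E := by rw [hy, conj_pow]; exact hEn.conj_mem _ hx2 g
    set e := y ^ 2 * (x ^ 2)⁻¹ with he
    have heE : e ∈ E := mul_mem hy2 (inv_mem hx2)
    have he2 : e ^ 2 = 1 := by
      rw [he, (hEc _ hy2 _ (inv_mem hx2)).mul_pow, inv_pow, ← pow_mul, ← pow_mul, hx4, hy, conj_pow,
        hx4, inv_one, mul_one, mul_one, mul_inv_cancel]
    have hdC : d ∈ C := hNC (hN₀le hdN)
    have hconj : x * d * x⁻¹ = d⁻¹ * e := by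
      have hc : Commute x (y ^ 2) := hCmem.1 hxC _ hy2
      calc x * d * x⁻¹ = y * x⁻¹ := by rw [hd]; group
        _ = y⁻¹ * y ^ 2 * (x * (x ^ 2)⁻¹) := by group
        _ = y⁻¹ * (y ^ 2 * x) * (x ^ 2)⁻¹ := by group
        _ = y⁻¹ * (x * y ^ 2) * (x ^ 2)⁻¹ := by rw [hc.eq]
        _ = _ := by rw [hd, he]; group
    have h4 := pow_four_eq_one (h2 d) (hCmem.1 hdC _ heE) he2 hconj (fun n hn => by
      rw [(hCmem.1 hxC _ (hsmall _ (pow_mem hdN n) hn)).eq, mul_inv_cancel_right])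
    exact hsmall d hdN h4
  haveI : (E ⊔ Subgroup.zpowers x).Normal := by
    rw [← Subgroup.normalizer_eq_top_iff]
    refine (Subgroup.eq_top_iff' _).2 fun g => ?_
    have key : ∀ g : G, (E ⊔ Subgroup.zpowers x).map (MulAut.conj g).toMonoidHom ≤
        E ⊔ Subgroup.zpowers x := by
      intro g
      rw [Subgroup.map_sup]
      refine sup_le (le_sup_left.trans' ?_) ?_
      · rintro _ ⟨e, he, rfl⟩
        exact hEn.conj_mem e he g
      · rw [MonoidHom.map_zpowers, Subgroup.zpowers_le]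
        change g * x * g⁻¹ ∈ _
        rw [← mul_inv_cancel_left x (g * x * g⁻¹)]
        exact mul_mem (Subgroup.mem_sup_right (Subgroup.mem_zpowers x))
          (Subgroup.mem_sup_left (hd g))
    refine Subgroup.mem_normalizer_iff.2 fun a => ⟨fun ha => key g ⟨a, ha, rfl⟩, fun ha => ?_⟩
    have := key g⁻¹ ⟨_, ha, rfl⟩
    simpa [mul_assoc] using this
  have hmemE' : ∀ a ∈ E ⊔ Subgroup.zpowers x, ∃ e ∈ E, ∃ i : ℤ, a = e * x ^ i := by
    intro a ha
    rw [← SetLike.mem_coe, Subgroup.normal_mul] at ha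
    obtain ⟨e, he, _, ⟨i, rfl⟩, rfl⟩ := ha
    exact ⟨e, he, i, rfl⟩
  have h1 : E ⊔ Subgroup.zpowers x ≤ E := by
    refine hmax (j := E ⊔ Subgroup.zpowers x) ⟨‹_›, fun a ha b hb => ?_, fun a ha => ?_⟩ le_sup_left
    · obtain ⟨e, he, i, rfl⟩ := hmemE' a ha
      obtain ⟨f, hf, j, rfl⟩ := hmemE' b hb
      have hxe : ∀ e ∈ E, ∀ i : ℤ, Commute e (x ^ i) := fun e he i =>
        ((hCmem.1 hxC e he).symm).zpow_right i
      exact ((hEc e he f hf).mul_right (hxe e he j)).mul_left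
        (((hxe f hf i).symm).mul_right ((Commute.refl x).zpow_zpow i j))
    · obtain ⟨e, he, i, rfl⟩ := hmemE' a ha
      rw [(((hCmem.1 hxC e he).symm).zpow_right i).mul_pow, hEe e he, one_mul, ← zpow_natCast (x ^ i),
        ← zpow_mul, mul_comm, zpow_mul, zpow_natCast, hx4, one_zpow]
  exact hxE (h1 (Subgroup.mem_sup_right (Subgroup.mem_zpowers x)))

namespace Data

variable (T : Data G)

/-- The centralizer of `E`. -/
def C : Subgroup G := Subgroup.centralizer (T.E : Set G)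

theorem mem_C {x : G} : x ∈ T.C ↔ ∀ e ∈ T.E, Commute x e :=
  Subgroup.mem_centralizer_iff.trans ⟨fun h e he => (h e he).symm, fun h e he => (h e he).eq.symm⟩

theorem E_le : T.E ≤ T.C := fun e he => T.mem_C.2 (T.comm e he)

theorem C_normal : T.C.Normal :=
  haveI := T.normal
  Subgroup.normal_centralizer

theorem central {x c : G} (hx : x ∈ T.C) (hx4 : x ^ 4 = 1) (hc : c ∈ T.C) : Commute x c :=
  ((T.mem_C.1 hc) x (T.absorb x (T.mem_C.1 hx) hx4)).symm

theorem central4_sub {D : Subgroup G} (hD : D ≤ T.C) : Central4 D := fun x hx =>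
  Subgroup.mem_center_iff.2 fun y =>
    Subtype.ext (T.central (hD x.2) (by exact_mod_cast congrArg Subtype.val hx) (hD y.2)).symm

/-- The elements of square one of `E`. -/
def W : Subgroup G where
  carrier := {e | e ∈ T.E ∧ e ^ 2 = 1}
  one_mem' := ⟨one_mem _, one_pow 2⟩
  mul_mem' := by
    rintro a b ⟨ha, ha2⟩ ⟨hb, hb2⟩
    exact ⟨mul_mem ha hb, by rw [(T.comm a ha b hb).mul_pow, ha2, hb2, one_mul]⟩
  inv_mem' := by
    rintro a ⟨ha, ha2⟩
    exact ⟨inv_mem ha, by rw [inv_pow, ha2, inv_one]⟩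

theorem mem_W {e : G} : e ∈ T.W ↔ e ∈ T.E ∧ e ^ 2 = 1 := Iff.rfl

theorem mem_W_of_C {x : G} (hx : x ∈ T.C) (h : x ^ 2 = 1) : x ∈ T.W :=
  ⟨T.absorb x (T.mem_C.1 hx) (by rw [show (4 : ℕ) = 2 * 2 from rfl, pow_mul, h, one_pow]), h⟩

theorem W_normal : T.W.Normal :=
  ⟨fun e he g => ⟨T.normal.conj_mem e he.1 g, by rw [conj_pow, he.2, mul_one, mul_inv_cancel]⟩⟩

variable [Finite G]

theorem relIndex_sq_le (h2 : IsPGroup 2 G) {D : Subgroup G} (hD : D ≤ T.C) :
    (sq D).relIndex D ≤ Nat.card T.W := by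
  rw [relIndex_sq]
  refine (index_sq_le (h2.to_subgroup D) (T.central4_sub hD)).trans
    (Nat.card_le_card_of_injective (fun a : inv1 (T.central4_sub hD) =>
      (⟨a.1.1, T.mem_W_of_C (hD a.1.2)
        (by exact_mod_cast congrArg Subtype.val ((mem_inv1 _).1 a.2))⟩ : T.W)) fun a b hab => ?_)
  exact Subtype.ext (Subtype.ext (congrArg (fun z : T.W => z.1) hab))

/-- Squares in the centralizer, when there are at most four involutions there. -/
theorem exists_root (h2 : IsPGroup 2 G) (hW : Nat.card T.W ≤ 4) {t : G} (ht : t ∈ sq T.C) :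
    ∃ s ∈ T.C, t = s ^ 2 := by
  have h4 : Nat.card (inv1 (T.central4_sub le_rfl)) ≤ 4 := by
    refine (Nat.card_le_card_of_injective (fun a : inv1 (T.central4_sub le_rfl) =>
      (⟨a.1.1, T.mem_W_of_C a.1.2
        (by exact_mod_cast congrArg Subtype.val ((mem_inv1 _).1 a.2))⟩ : T.W)) fun a b hab => ?_).trans hW
    exact Subtype.ext (Subtype.ext (congrArg (fun z : T.W => z.1) hab))
  have hmem : t ∈ (sq (⊤ : Subgroup T.C)).map T.C.subtype := by
    rw [sq, MonoidHom.map_closure]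
    refine Subgroup.closure_mono ?_ ht
    rintro _ ⟨x, hx, rfl⟩
    exact ⟨⟨x, hx⟩ ^ 2, ⟨⟨x, hx⟩, Set.mem_univ _, rfl⟩, rfl⟩
  obtain ⟨m, hm, rfl⟩ := hmem
  obtain ⟨s, rfl⟩ := exists_sq (h2.to_subgroup T.C) (T.central4_sub le_rfl) h4 m hm
  exact ⟨s.1, s.2, rfl⟩

theorem card_E_le (hW : Nat.card T.W ≤ 4) : Nat.card T.E ≤ 16 := by
  let f : T.E →* T.W :=
    { toFun := fun e => ⟨e.1 ^ 2, pow_mem e.2 2, by rw [← pow_mul]; exact T.exp _ e.2⟩
      map_one' := Subtype.ext (one_pow 2)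
      map_mul' := fun a b => Subtype.ext ((T.comm _ a.2 _ b.2).mul_pow 2) }
  have h1 := f.ker.card_mul_index
  rw [Subgroup.index_ker] at h1
  have h3 : Nat.card f.range ≤ 4 := (Subgroup.card_le_card_group _).trans hW
  have h5 : Nat.card f.ker ≤ 4 := by
    refine (Nat.card_le_card_of_injective (fun a : f.ker => (⟨a.1.1, a.1.2,
      congrArg Subtype.val (MonoidHom.mem_ker.1 a.2)⟩ : T.W)) fun a b hab => ?_).trans hW
    exact Subtype.ext (Subtype.ext (congrArg (fun z : T.W => z.1) hab))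
  rw [← h1]
  exact Nat.mul_le_mul h5 h3

end Data

end Cfsg.Agent.Solv.FourGen
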